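import Cfsg.Agent.H87.AltEightLocal.QShape
import Cfsg.Agent.H87.S3344.Exists
import Cfsg.Agent.H87.S3344.SwapBranch
import Cfsg.Agent.H92.QuotLarge
import Cfsg.Agent.PGroups.SmallExtraspecial.CentFields
import Cfsg.Agent.PGroups.SmallExtraspecial.CentFour
import Cfsg.Agent.H14.S3344Rec.CountMain

/-!
The alternating shape of the centraliser: recognition of the alternating groups of degree 8 and 9 through the
theorem on centralisers of type extraspecial of order 32 by `Sym(3)`.
-/

set_option autoImplicit false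
set_option linter.style.haveILetI false

namespace Cfsg.Agent.H87.AltEightLocal

open Subgroup PGroups.AltEightSylow

/-- The extraspecial subgroup on labels. -/
lemma mQ_facts : (members mQ).all (fun x => (sqB x || mulN x x == 5) &&
    (x == 0 || x == 5 || (members mQ).any fun y => !cmB y x) &&
    (members mQ).all fun y => comN x y == 0 || comN x y == 5) = true := by
  decide +kernel

/-- In the model with both quaternion factors fixed, an involution of the extraspecial subgroup outside the
centre with few conjugates lies in the normal subgroup of order 8. -/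
lemma few_conj : ((List.range 32).all fun m => !S3344.ivB false false m ||
    (2216789025 : ℕ).testBit m ||
      Nat.blt 6 (((List.range 192).map fun g =>
        S3344.nmul false false (S3344.nmul false false g m) (S3344.ninv false false g)).dedup.length)) = true ∧
    (List.range 32).countP (fun m => (2216789025 : ℕ).testBit m && !(m == 0) && !(m == 16)) = 6 := by
  refine ⟨?_, ?_⟩ <;> decide +kernel

/-- The six elements of a line. -/
def sixList (i : ℕ) : List ℕ := (List.range 64).filter fun n => (mV i).testBit n && !(n == 0) && !(n == 5)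

lemma six_lengths : (sixList 0).length = 6 ∧ (sixList 1).length = 6 ∧
    (sixList 0 ++ sixList 1).Nodup ∧ ((sixList 0 ++ sixList 1).all fun n => mQ.testBit n && sqB n) = true := by
  refine ⟨?_, ?_, ?_, ?_⟩ <;> decide +kernel

lemma mem_sixList {i : ℕ} {x : M64} : (x.lab : ℕ) ∈ sixList i ↔ InSix i x := by
  simp only [sixList, List.mem_filter, List.mem_range, Bool.and_eq_true, Bool.not_eq_true', beq_eq_false_iff_ne,
    InSix, inMask]
  constructor
  · rintro ⟨-, ⟨h1, h2⟩, h3⟩
    exact ⟨h1, fun e => h2 (by rw [e, M64.one_lab]), fun e => h3 (by rw [e, M64.z_lab])⟩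
  · rintro ⟨h1, h2, h3⟩
    exact ⟨x.lab.isLt, ⟨h1, fun e => h2 (M64.ext' (e.trans M64.one_lab.symm))⟩,
      fun e => h3 (M64.ext' (e.trans M64.z_lab.symm))⟩

variable {K : Type*} [Group K] [Finite K] {d : Emb K}

/-- The extraspecial 2-core. -/
theorem core_extraspecial (h : d.ShapeAlt) : Cfsg.IsExtraspecial 2 (Cfsg.pCore 2 K) := by
  have hQ : CoreQ d := h.pCore_mem
  have hlab : ∀ x : Cfsg.pCore 2 K, ∃ y : M64, d.hom y = x ∧ inMask mQ y := fun x => by
    obtain ⟨y, hy⟩ := core_le d x.2
    exact ⟨y, hy, (hQ y).1 (hy ▸ x.2)⟩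
  have hzQ : d.z ∈ Cfsg.pCore 2 K :=
    (hQ _).2 (by rw [inMask, M64.z_lab]; decide +kernel)
  have hz1 : d.z ≠ 1 := (PGroups.SmallExtraspecial.two_iff.1 d.z_order).2
  have hf := mQ_facts
  simp only [List.all_eq_true, Bool.and_eq_true, Bool.or_eq_true, List.any_eq_true, beq_iff_eq,
    Bool.not_eq_true'] at hf
  refine H92.isExtraspecial_of_center_two Cores.pCore_isPGroup (ζ := ⟨d.z, hzQ⟩)
    (fun e => hz1 (congrArg Subtype.val e)) (fun y => Subtype.ext (d.z_comm (core_le d y.2)))
    (fun x hx => ?_) (fun x y => ?_) (fun x => ?_) (by rw [h.pCore_card]; norm_num)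
  · obtain ⟨a, ha, haQ⟩ := hlab x
    rcases (hf _ (lab_mem a haQ)).1.2 with (e | e) | ⟨n, hn, hnc⟩
    · exact Or.inl (Subtype.ext (by rw [← ha, coe_one, ← map_one d.hom, hom_eq d, e, M64.one_lab]))
    · exact Or.inr (Subtype.ext (by rw [← ha]; show _ = d.z; rw [Emb.z, hom_eq d, e, M64.z_lab]))
    · exfalso
      obtain ⟨hn64, hnQ⟩ := mem_members hn
      have h1 := congrArg Subtype.val (hx ⟨d.hom (M64.of n), (hQ _).2 ((inMask_of hn64).2 hnQ)⟩)
      simp only [coe_mul, ← ha, ← map_mul] at h1
      have h2 := M64.cmB_iff.2 (d.inj h1)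
      rw [M64.of_lab_val hn64, hnc] at h2
      exact Bool.noConfusion h2
  · obtain ⟨a, ha, haQ⟩ := hlab x
    obtain ⟨b, hb, hbQ⟩ := hlab y
    rcases (hf _ (lab_mem a haQ)).2 _ (lab_mem b hbQ) with e | e
    · exact Or.inl (Subtype.ext (by
        simp only [coe_mul, coe_inv, coe_one, ← ha, ← hb]
        rw [hom_com, ← map_one d.hom, hom_eq d, com_lab, e, M64.one_lab]))
    · exact Or.inr (Subtype.ext (by
        simp only [coe_mul, coe_inv, ← ha, ← hb]
        rw [hom_com, Emb.z, hom_eq d, com_lab, e, M64.z_lab]))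
  · obtain ⟨a, ha, haQ⟩ := hlab x
    rcases (hf _ (lab_mem a haQ)).1.1 with e | e
    · exact Or.inl (Subtype.ext (by rw [coe_mul, ← ha, ← map_mul, M64.sqB_iff.1 e, map_one, coe_one]))
    · exact Or.inr (Subtype.ext (by
        rw [coe_mul, ← ha, ← map_mul]; show _ = d.z; rw [Emb.z, hom_eq d, M64.mul_lab, e, M64.z_lab]))

variable {G : Type*} [Group G] [Finite G]

/-- The embedding into the centraliser of `z`. -/
def cenEmb (d : Emb G) : Emb (centralizer ({d.z} : Set G)) where
  hom := d.hom.codRestrict _ fun x => mem_centralizer_singleton_iff.2 (d.z_comm (d.mem_T x))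
  inj := fun _ _ e => d.inj (congrArg Subtype.val e)
  maxl := fun P hP hle => by
    refine le_antisymm (fun p hp => ?_) hle
    have h : P.map (centralizer ({d.z} : Set G)).subtype = d.T :=
      d.maxl _ (hP.map _) (by rintro _ ⟨x, rfl⟩; exact ⟨_, hle ⟨x, rfl⟩, rfl⟩)
    obtain ⟨x, hx⟩ := h.le ⟨p, hp, rfl⟩
    exact ⟨x, Subtype.ext hx⟩

lemma cenEmb_hom (d : Emb G) (x : M64) : ((cenEmb d).hom x : G) = d.hom x := rfl

/-- A group whose centraliser of `z` has the alternating shape and fuses `z` inside the extraspecial subgroup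
is alternating of degree 8 or 9. -/
theorem alt_recognition (d : Emb G) (hcore : Cfsg.pCore 2 G = ⊥)
    (dC : Emb (centralizer ({d.z} : Set G))) (hcompat : ∀ x : M64, (dC.hom x : G) = d.hom x)
    (h : dC.ShapeAlt)
    (hnwc : ∃ g : G, ∃ x : M64, inMask mQ x ∧ x ≠ M64.z ∧ g * d.z * g⁻¹ = d.hom x) :
    Nonempty (G ≃* alternatingGroup (Fin 8)) ∨ Nonempty (G ≃* alternatingGroup (Fin 9)) := by
  classical
  have hzz : (dC.z : G) = d.z := hcompat M64.z
  set Q : Subgroup G := (Cfsg.pCore 2 (centralizer ({d.z} : Set G))).map (centralizer ({d.z} : Set G)).subtype with hQ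
  have hQmem : ∀ x : M64, d.hom x ∈ Q ↔ inMask mQ x := fun x => by
    rw [hQ, ← hcompat, ← Subgroup.subtype_apply, mem_map_iff_mem (centralizer ({d.z} : Set G)).subtype_injective]
    exact h.pCore_mem x
  have hQcard : Nat.card Q = 32 := by
    rw [hQ, card_map_of_injective (centralizer ({d.z} : Set G)).subtype_injective]; exact h.pCore_card
  have hQex : Cfsg.IsExtraspecial 2 Q :=
    H92.isExtraspecial_of_mulEquiv ((Cfsg.pCore 2 (centralizer ({d.z} : Set G))).equivMapOfInjective _ (centralizer ({d.z} : Set G)).subtype_injective)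
      (core_extraspecial h)
  obtain ⟨e⟩ := h.quot
  obtain ⟨X⟩ : Nonempty (Sylow 3 (centralizer ({d.z} : Set G))) := inferInstance
  have hCQX : Q ⊓ centralizer (((X : Subgroup (centralizer ({d.z} : Set G))).map (centralizer ({d.z} : Set G)).subtype : Subgroup G) : Set G) = zpowers d.z := by
    ext y
    constructor
    · intro hy
      obtain ⟨⟨w, hwQ, rfl⟩, hyX⟩ := mem_inf.1 hy
      have hw : w ∈ zpowers dC.z := by
        rw [← h.fpf X]
        exact mem_inf.2 ⟨hwQ, fun r hr => Subtype.ext (hyX r.1 ⟨r, hr, rfl⟩)⟩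
      obtain ⟨n, rfl⟩ := hw
      exact ⟨n, by simp [hzz]⟩
    · rintro ⟨n, rfl⟩
      have hw := (h.fpf X).ge (zpow_mem (mem_zpowers dC.z) n)
      obtain ⟨hwQ, hwX⟩ := mem_inf.1 hw
      refine mem_inf.2 ⟨⟨_, hwQ, by simp [hzz]⟩, ?_⟩
      rintro _ ⟨r, hr, rfl⟩
      have := congrArg (centralizer ({d.z} : Set G)).subtype (hwX r hr)
      simpa [hzz] using this
  obtain ⟨ty, us, E, hmem⟩ := S3344.exists_emb d.z d.z_order (centralizer ({d.z} : Set G)) rfl Q hQ hQex hQcard e X hCQX
  obtain ⟨g, x, hxQ, hxz, hgx⟩ := hnwc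
  have hxC : d.hom x * d.z = d.z * d.hom x := d.z_comm (d.mem_T x)
  obtain ⟨a, ha⟩ := E.mem_iff.1 hxC
  have ha32 : a.val < 32 := (hmem a).1 (ha ▸ (hQmem x).2 hxQ)
  have haz : a ≠ S3344.Mdl.z := fun e => hxz (d.inj (by
    have := ha; rw [e, E.map_z] at this; exact this.symm))
  have hga : g * d.z * g⁻¹ = E.hom a := hgx.trans ha.symm
  obtain ⟨rfl, ⟨V, hV, haV⟩, -⟩ := E.conj_mask hga haz ha32
  cases ty
  · -- both quaternion factors fixed: only one normal subgroup of order 8
    exfalso
    obtain ⟨hL0, hL1, hnd, hall⟩ := six_lengths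
    simp only [List.all_eq_true, Bool.and_eq_true] at hall
    have hlab : ∀ n ∈ sixList 0 ++ sixList 1, n < 64 ∧ ∃ i < 2, InSix i (M64.of n) := by
      intro n hn
      rcases List.mem_append.1 hn with hn | hn
      all_goals
        have hn64 : n < 64 := by
          simp only [sixList, List.mem_filter, List.mem_range] at hn; exact hn.1
        refine ⟨hn64, _, ?_, mem_sixList.1 (by rw [M64.of_lab_val hn64]; exact hn)⟩
        norm_num
    have hfun : ∀ y : M64, ∃ b : S3344.Mdl false false, E.hom b = d.hom y := fun y => by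
      exact E.mem_iff.1 (d.z_comm (d.mem_T y))
    choose b hb using hfun
    have hbV : ∀ n ∈ sixList 0 ++ sixList 1,
        (b (M64.of n)).val < 32 ∧ (b (M64.of n)).val ≠ 0 ∧ (b (M64.of n)).val ≠ 16 ∧
          (2216789025 : ℕ).testBit (b (M64.of n)).val = true := by
      intro n hn
      obtain ⟨hn64, i, hi, hsix⟩ := hlab n hn
      obtain ⟨hnQ, hnsq⟩ := hall n hn
      set m := (b (M64.of n)).val with hm
      have h32 : m < 32 := (hmem _).1 (hb _ ▸ (hQmem _).2 ((inMask_of hn64).2 hnQ))
      have h0 : m ≠ 0 := fun e => hsix.2.1 (d.inj (by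
        rw [← hb, show b (M64.of n) = 1 from S3344.Mdl.ext' (e.trans S3344.Mdl.one_val.symm), map_one, map_one]))
      have h16 : m ≠ 16 := fun e => hsix.2.2 (d.inj (by
        rw [← hb, show b (M64.of n) = S3344.Mdl.z from S3344.Mdl.ext' (e.trans S3344.Mdl.z_val.symm), E.map_z]
        rfl))
      refine ⟨h32, h0, h16, ?_⟩
      have hf := few_conj.1
      simp only [List.all_eq_true, List.mem_range, Bool.or_eq_true, Bool.not_eq_true', Nat.blt_eq] at hf
      rcases hf m h32 with (hiv | hv) | hlong
      · exfalso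
        have hmm : b (M64.of n) * b (M64.of n) = 1 := E.inj (by
          rw [map_mul, hb, ← map_mul, M64.sqB_iff.1 (by rw [M64.of_lab_val hn64]; exact hnsq), map_one, map_one])
        have hmm' := congrArg S3344.Mdl.val hmm
        rw [S3344.Mdl.mul_val, S3344.Mdl.one_val, ← hm] at hmm'
        simp [S3344.ivB, hmm', h0, h16] at hiv
      · exact hv
      · exfalso
        set L := ((List.range 192).map fun g =>
          S3344.nmul false false (S3344.nmul false false g m) (S3344.ninv false false g)).dedup with hL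
        have hLn : L.Nodup := List.nodup_dedup _
        have himg : ∀ w ∈ L, ∃ y : M64, InSix i y ∧ (b y).val = w := by
          intro w hw
          rw [hL, List.mem_dedup, List.mem_map] at hw
          obtain ⟨g', hg', rfl⟩ := hw
          set k := (S3344.Mdl.mk' g' : S3344.Mdl false false) with hk
          have hkC : E.hom k ∈ (centralizer ({d.z} : Set G)) := mem_centralizer_singleton_iff.2 (E.comm k)
          obtain ⟨y, hy, hye⟩ := h.V_normal i (by omega) ⟨E.hom k, hkC⟩ _ hsix.1
          have hye' : E.hom k * d.hom (M64.of n) * (E.hom k)⁻¹ = d.hom y := by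
            have := congrArg Subtype.val hye
            simpa [hcompat] using this
          refine ⟨y, ⟨hy, fun e => hsix.2.1 ?_, fun e => hsix.2.2 ?_⟩, ?_⟩
          · rw [e, map_one, conj_eq_one_iff, ← map_one d.hom] at hye'
            exact d.inj hye'
          · rw [e, show d.hom M64.z = d.z from rfl] at hye'
            refine d.inj (PGroups.SmallExtraspecial.conj_inj (g := E.hom k) (hye'.trans ?_))
            show d.z = E.hom k * d.z * (E.hom k)⁻¹
            rw [E.comm k, mul_inv_cancel_right]
          · have : b y = k * b (M64.of n) * k⁻¹ := E.inj (by rw [hb, ← hye', map_mul, map_mul, map_inv, hb])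
            rw [this, S3344.Mdl.mul_val, S3344.Mdl.mul_val, S3344.Mdl.inv_val, hk,
              S3344.Mdl.val_mk' (List.mem_range.1 hg'), ← hm]
        have hsub : L.toFinset ⊆ (sixList i).toFinset.image fun n' => (b (M64.of n')).val := by
          intro w hw
          obtain ⟨y, hy, hyw⟩ := himg w (List.mem_toFinset.1 hw)
          exact Finset.mem_image.2 ⟨y.lab, List.mem_toFinset.2 (mem_sixList.2 hy), by rw [M64.of_lab]; exact hyw⟩
        have := (Finset.card_le_card hsub).trans Finset.card_image_le
        rw [List.toFinset_card_of_nodup hLn] at this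
        have h6 : (sixList i).toFinset.card ≤ 6 := (List.toFinset_card_le _).trans (by
          interval_cases i
          exacts [hL0.le, hL1.le])
        omega
    have hsub : ((sixList 0 ++ sixList 1).map fun n => (b (M64.of n)).val).toFinset ⊆
        ((List.range 32).filter fun m => (2216789025 : ℕ).testBit m && !(m == 0) && !(m == 16)).toFinset := by
      intro w hw
      obtain ⟨n, hn, rfl⟩ := List.mem_map.1 (List.mem_toFinset.1 hw)
      obtain ⟨h1, h2, h3, h4⟩ := hbV n hn
      simp [h1, h2, h3, h4]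
    have hinj : ((sixList 0 ++ sixList 1).map fun n => (b (M64.of n)).val).Nodup := by
      refine List.Nodup.map_on (fun n hn n' hn' e => ?_) hnd
      have h1 : d.hom (M64.of n) = d.hom (M64.of n') := by rw [← hb, ← hb, S3344.Mdl.ext' e]
      rw [hom_eq d, M64.of_lab_val (hlab n hn).1, M64.of_lab_val (hlab n' hn').1] at h1
      exact h1
    have := Finset.card_le_card hsub
    rw [List.toFinset_card_of_nodup hinj, List.length_map, List.length_append, hL0, hL1,
      List.toFinset_card_of_nodup (List.nodup_range.filter _), ← List.countP_eq_length_filter, few_conj.2] at this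
    omega
  -- the swap type
  have hN : ∀ (N : Subgroup G) (hN : N.Normal), Nat.card N = 8 → False := by
    intro N hN hcard
    have h1 := eq_bot_iff.2 ((Cores.le_pCore (p := 2) (IsPGroup.of_card (n := 3) (G := N) (by rw [hcard]; norm_num))).trans
      hcore.le)
    rw [h1, card_bot] at hcard
    omega
  by_cases honly : ∀ (k : G) (a : S3344.Mdl true false), k * d.z * k⁻¹ = E.hom a → a ≠ S3344.Mdl.z → a.val < 32 →
      V.testBit a.val = true
  · obtain ⟨N, hNn, -, -, hc8, -⟩ := S3344.swap_single E hga haz hV haV honly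
    exact (hN N hNn hc8).elim
  push Not at honly
  obtain ⟨g₁, a₁, ha₁, ha₁z, ha₁32, ha₁V⟩ := honly
  obtain ⟨-, ⟨W, hW, haW⟩, -⟩ := E.conj_mask ha₁ ha₁z ha₁32
  obtain ⟨j, hj, rfl⟩ := S3344.mask_index hV
  obtain ⟨k, hk, rfl⟩ := S3344.mask_index hW
  have hjk : j ≠ k := by
    rintro rfl
    exact ha₁V haW
  rcases S3344.swap_double E hj hk hjk (S3344.moved_of_conj E hga haz hV haV)
    (S3344.moved_of_conj E ha₁ ha₁z hW haW) with h8 | hbig
  · exact Or.inl h8
  · obtain ⟨bc⟩ := hbig
    exact bc.d.eight_or_nine (fun D => D.card_eq) bc.classes bc.hfour bc.pairs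

end Cfsg.Agent.H87.AltEightLocal
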