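import Cfsg.Agent.PGroups.AltEightSylow.Spec
import Cfsg.Agent.Cores.PCore
import Cfsg.Agent.Cores.Constrained

/-!
Generalities for the classification of the solvable groups with the model as Sylow 2-subgroup: elements of odd
order, stabilisers of normal series and the translation of commutators to labels.
-/

set_option autoImplicit false
set_option linter.style.haveILetI false
set_option linter.unusedSectionVars false

namespace Cfsg.Agent.H87.AltEightLocal

open Subgroup PGroups.AltEightSylow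

/-- The commutator `g x g⁻¹ x⁻¹` on labels. -/
def comN (g x : ℕ) : ℕ := mulN (conjN g x) (invN x)

lemma com_lab (g x : M64) : ((g * x * g⁻¹ * x⁻¹).lab : ℕ) = comN g.lab x.lab := by
  rw [M64.mul_lab, M64.inv_lab, M64.conj_lab]; rfl

/-- A check on all labels applies to all elements. -/
lemma all_lab {f : ℕ → Bool} (h : (List.range 64).all f = true) (x : M64) : f x.lab = true := by
  simp only [List.all_eq_true, List.mem_range] at h
  exact h _ x.lab.isLt

lemma lab_inj {x y : M64} : (x.lab : ℕ) = y.lab ↔ x = y := ⟨M64.ext', fun h => by rw [h]⟩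

lemma inMask_of {m n : ℕ} (hn : n < 64) : inMask m (M64.of n) ↔ m.testBit n = true := by
  rw [inMask, M64.of_lab_val hn]

variable {K : Type*} [Group K]

/-- The elements inducing the identity on `A / B`. -/
def stab (A B : Subgroup K) [B.Normal] : Subgroup K where
  carrier := {k | ∀ x ∈ A, k * x * k⁻¹ * x⁻¹ ∈ B}
  one_mem' := fun x _ => by simp
  mul_mem' := by
    intro k l hk hl x hx
    rw [show k * l * x * (k * l)⁻¹ * x⁻¹ = k * (l * x * l⁻¹ * x⁻¹) * k⁻¹ * (k * x * k⁻¹ * x⁻¹) by group]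
    exact B.mul_mem (Normal.conj_mem inferInstance _ (hl x hx) k) (hk x hx)
  inv_mem' := by
    intro k hk x hx
    rw [show k⁻¹ * x * k⁻¹⁻¹ * x⁻¹ = k⁻¹ * (k * x * k⁻¹ * x⁻¹)⁻¹ * k⁻¹⁻¹ by group]
    exact Normal.conj_mem inferInstance _ (B.inv_mem (hk x hx)) _

instance stab_normal (A B : Subgroup K) [A.Normal] [B.Normal] : (stab A B).Normal := ⟨fun k hk g x hx => by
  rw [show g * k * g⁻¹ * x * (g * k * g⁻¹)⁻¹ * x⁻¹ =
    g * (k * (g⁻¹ * x * g⁻¹⁻¹) * k⁻¹ * (g⁻¹ * x * g⁻¹⁻¹)⁻¹) * g⁻¹ by group]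
  exact Normal.conj_mem inferInstance _ (hk _ (Normal.conj_mem inferInstance _ hx _)) _⟩

/-- An element of odd order moving `x` by a fixed element of exponent two fixes `x`. -/
lemma fix_step {r x s : K} (ho : Odd (orderOf r)) (hs : s * s = 1) (hrs : r * s * r⁻¹ = s)
    (hx : r * x * r⁻¹ = s * x) : r * x * r⁻¹ = x := by
  have h2 : Commute (r ^ 2) x := by
    refine mul_inv_eq_iff_eq_mul.1 ?_
    calc r ^ 2 * x * (r ^ 2)⁻¹ = r * (r * x * r⁻¹) * r⁻¹ := by rw [pow_two]; group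
      _ = r * (s * x) * r⁻¹ := by rw [hx]
      _ = r * s * r⁻¹ * (r * x * r⁻¹) := by group
      _ = x := by rw [hrs, hx, ← mul_assoc, hs, one_mul]
  obtain ⟨m, hm⟩ := ho
  have hr : (r ^ 2) ^ (m + 1) = r := by
    rw [← pow_mul, show 2 * (m + 1) = orderOf r + 1 by omega, pow_succ, pow_orderOf_eq_one, one_mul]
  exact mul_inv_eq_iff_eq_mul.2 (hr ▸ h2.pow_left (m + 1)).eq

lemma exists_odd_pow [Finite K] (k : K) : ∃ a : ℕ, Odd (orderOf (k ^ 2 ^ a)) := by
  obtain ⟨a, b, hb, hab⟩ := Nat.exists_eq_two_pow_mul_odd (orderOf_pos k).ne'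
  refine ⟨a, ?_⟩
  rw [orderOf_pow_of_dvd (by positivity) (hab ▸ dvd_mul_right _ _), hab,
    Nat.mul_div_cancel_left _ (by positivity)]
  exact hb

lemma isPGroup_of_odd [Finite K] {N : Subgroup K} (h : ∀ r ∈ N, Odd (orderOf r) → r = 1) :
    IsPGroup 2 N := fun k => by
  obtain ⟨a, ha⟩ := exists_odd_pow (k : K)
  exact ⟨a, Subtype.ext (by simpa using h _ (N.pow_mem k.2 _) ha)⟩

lemma eq_one_of_odd {P : Subgroup K} (hP : IsPGroup 2 P) {r : K} (hr : r ∈ P) (ho : Odd (orderOf r)) :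
    r = 1 := by
  obtain ⟨n, hn⟩ := hP ⟨r, hr⟩
  have hd : orderOf r ∣ 2 ^ n := orderOf_dvd_of_pow_eq_one (by simpa using congrArg Subtype.val hn)
  obtain ⟨j, -, hj⟩ := (Nat.dvd_prime_pow Nat.prime_two).1 hd
  refine orderOf_eq_one_iff.1 ?_
  rcases Nat.eq_zero_or_pos j with rfl | hj0
  · rw [hj, pow_zero]
  · rw [hj] at ho
    exact absurd (Nat.even_pow.2 ⟨even_two, hj0.ne'⟩) (Nat.not_even_iff_odd.2 ho)

variable (d : Emb K)

lemma hom_eq {x y : M64} : d.hom x = d.hom y ↔ (x.lab : ℕ) = y.lab :=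
  d.inj.eq_iff.trans lab_inj.symm

lemma hom_com (g x : M64) : d.hom g * d.hom x * (d.hom g)⁻¹ * (d.hom x)⁻¹ = d.hom (g * x * g⁻¹ * x⁻¹) := by
  simp

lemma hom_of_lab (x : M64) {n : ℕ} (h : (x.lab : ℕ) = n) : d.hom x = d.hom (M64.of n) := by
  rw [← h, M64.of_lab]

lemma z_central_of (hz : ∀ k : K, k * d.z = d.z * k) (k : K) : k * d.z * k⁻¹ = d.z := by
  rw [hz, mul_inv_cancel_right]

lemma zpowers_z_normal (hz : ∀ k : K, k * d.z = d.z * k) : (zpowers d.z).Normal := ⟨fun x hx g => by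
  obtain ⟨i, rfl⟩ := hx
  simp only [← conj_zpow, z_central_of d hz g]
  exact ⟨i, rfl⟩⟩

lemma mem_zpowers_z {x : K} : x ∈ zpowers d.z ↔ x = 1 ∨ x = d.z := by
  refine ⟨fun hx => ?_, ?_⟩
  · obtain ⟨i, rfl⟩ := hx
    rcases Int.emod_two_eq_zero_or_one i with h | h <;>
      simp only [← zpow_mod_orderOf d.z i, d.z_order, Nat.cast_ofNat, h, zpow_zero, zpow_one, true_or, or_true]
  · rintro (rfl | rfl)
    exacts [one_mem _, mem_zpowers _]

lemma z_sq : d.z * d.z = 1 := (PGroups.SmallExtraspecial.two_iff.1 d.z_order).1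

variable [Finite K]

lemma core_le : Cfsg.pCore 2 K ≤ d.T := Cores.pCore_le_sylow d.sylow

lemma z_mem_core (hz : ∀ k : K, k * d.z = d.z * k) : d.z ∈ Cfsg.pCore 2 K := by
  haveI := zpowers_z_normal d hz
  refine Cores.le_pCore (N := zpowers d.z) ?_ (mem_zpowers _)
  exact IsPGroup.of_card (n := 1) (by rw [Nat.card_zpowers, d.z_order, pow_one])

/-- Solvability and trivial odd core give that the 2-core contains its centraliser. -/
lemma cen_core [Group.IsSolvable K] (hO : Cfsg.oddCore K = ⊥) :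
    centralizer (Cfsg.pCore 2 K : Set K) ≤ Cfsg.pCore 2 K :=
  haveI : Fact (Nat.Prime 2) := ⟨Nat.prime_two⟩
  Cores.centralizer_pCore_le Cores.isPSolvable_of_isSolvable hO

/-- An element of odd order that fixes the 2-core is trivial. -/
lemma odd_fix_core (hc : centralizer (Cfsg.pCore 2 K : Set K) ≤ Cfsg.pCore 2 K) {r : K}
    (ho : Odd (orderOf r)) (h : ∀ x ∈ Cfsg.pCore 2 K, r * x * r⁻¹ = x) : r = 1 :=
  eq_one_of_odd Cores.pCore_isPGroup (hc fun x hx => (mul_inv_eq_iff_eq_mul.1 (h x hx)).symm) ho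

end Cfsg.Agent.H87.AltEightLocal
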