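import Cfsg.Agent.H87.AltEightLocal.Base

/-!
The normal subgroups of the model containing the central involution, as bit masks.
-/

set_option autoImplicit false

namespace Cfsg.Agent.H87.AltEightLocal

open Subgroup PGroups.AltEightSylow

/-- The normal subgroups containing the elementary subgroup of order 16. -/
def overE : List ℕ := [0xffff, 0xffffffff, 0xffff0000ffff, 0xffff00000000ffff, 0xffffffffffffffff]

/-- For the other normal subgroups but the extraspecial one: the subgroup of the squares and `z`, and an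
element outside inducing the identity on both factors. -/
def redData : List (ℕ × ℕ × ℕ) :=
  [(0x21, 0x21, 1), (0x33, 0x21, 2), (0x4821, 0x21, 1), (0x8421, 0x21, 1), (0xcc33, 0x21, 2),
    (0x330033, 0x21, 10), (0xcc000033, 0x21, 10), (0x481200008421, 0x21, 1), (0x842100008421, 0x21, 1),
    (0x4821000000004821, 0x21, 1), (0x8412000000004821, 0x21, 1), (0x33cccc33, 0x33, 2), (0xcc33cc33, 0x21, 32),
    (0x33cc0000cc33, 0x8421, 2), (0xcc330000cc33, 0x21, 16), (0x33cc00000000cc33, 0x4821, 2),
    (0xcc3300000000cc33, 0x21, 16), (0x33cc33cccc33cc33, 0xcc33, 2), (0x33cccc3333cccc33, 0xcc33, 2),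
    (0xcc3333cc33cccc33, 0xcc33, 2)]

/-- All normal subgroups containing the central involution. -/
def normList : List ℕ := mQ :: (overE ++ redData.map Prod.fst)

/-- Elements forced into a normal subgroup by `x`. -/
def cand (x : ℕ) : List ℕ := [mulN x x, comN 1 x, comN 2 x, comN 16 x, comN 32 x]

/-- Descend to an element central modulo a mask. -/
def descend : ℕ → ℕ → ℕ → ℕ
  | 0, _, x => x
  | k + 1, m, x => ((cand x).find? fun y => !m.testBit y).elim x (descend k m)

/-- The members of a mask. -/
def members (m : ℕ) : List ℕ := (List.range 64).filter fun n => m.testBit n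

/-- The mask with the translate by `y` added. -/
def extMask (m y : ℕ) : ℕ := (members m).foldl (fun a n => a ||| 2 ^ mulN y n) m

lemma norm_step : (normList.all fun m => (List.range 64).all fun x => m.testBit x ||
    (normList.contains (extMask m (descend 4 m x)) && Nat.blt m (extMask m (descend 4 m x)))) = true := by
  decide +kernel

lemma norm_start : normList.contains 0x21 = true := by decide +kernel

lemma mem_members {m n : ℕ} (h : n ∈ members m) : n < 64 ∧ m.testBit n = true := by
  simpa [members] using h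

lemma foldl_bit (f : ℕ → ℕ) : ∀ (l : List ℕ) (a w : ℕ),
    (l.foldl (fun a n => a ||| 2 ^ f n) a).testBit w = true → a.testBit w = true ∨ ∃ n ∈ l, f n = w := by
  intro l
  induction l with
  | nil => exact fun a w h => Or.inl h
  | cons n l ih =>
    intro a w h
    rcases ih _ w h with h' | ⟨n', hn', e⟩
    · rw [Nat.testBit_or, Bool.or_eq_true, Nat.testBit_two_pow, decide_eq_true_eq] at h'
      exact h'.imp_right fun e => ⟨n, List.mem_cons_self, e⟩
    · exact Or.inr ⟨n', List.mem_cons_of_mem _ hn', e⟩

lemma com_mem {N : Subgroup M64} [N.Normal] (g : M64) {x : M64} (hx : x ∈ N) :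
    g * x * g⁻¹ * x⁻¹ ∈ N :=
  N.mul_mem (Normal.conj_mem inferInstance x hx g) (N.inv_mem hx)

lemma cand_mem {N : Subgroup M64} [N.Normal] {x : M64} (hx : x ∈ N) :
    ∀ y ∈ cand x.lab, y < 64 ∧ M64.of y ∈ N := by
  have key : ∀ w : M64, w ∈ N → (w.lab : ℕ) < 64 ∧ M64.of w.lab ∈ N :=
    fun w hw => ⟨w.lab.isLt, by rwa [M64.of_lab]⟩
  intro y hy
  simp only [cand, List.mem_cons, List.not_mem_nil, or_false] at hy
  rcases hy with rfl | rfl | rfl | rfl | rfl
  · rw [← M64.mul_lab]; exact key _ (N.mul_mem hx hx)
  · have h := key _ (com_mem (M64.of 1) hx)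
    rwa [com_lab, M64.of_lab_val (by norm_num : 1 < 64)] at h
  · have h := key _ (com_mem (M64.of 2) hx)
    rwa [com_lab, M64.of_lab_val (by norm_num : 2 < 64)] at h
  · have h := key _ (com_mem (M64.of 16) hx)
    rwa [com_lab, M64.of_lab_val (by norm_num : 16 < 64)] at h
  · have h := key _ (com_mem (M64.of 32) hx)
    rwa [com_lab, M64.of_lab_val (by norm_num : 32 < 64)] at h

lemma descend_mem {N : Subgroup M64} [N.Normal] (m : ℕ) :
    ∀ (k x : ℕ), x < 64 → M64.of x ∈ N → descend k m x < 64 ∧ M64.of (descend k m x) ∈ N := by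
  intro k
  induction k with
  | zero => exact fun x h1 h2 => ⟨h1, h2⟩
  | succ k ih =>
    intro x h1 h2
    rw [descend]
    cases hf : (cand x).find? (fun y => !m.testBit y) with
    | none => exact ⟨h1, h2⟩
    | some y =>
      have h := cand_mem h2 y (by rw [M64.of_lab_val h1]; exact List.mem_of_find?_eq_some hf)
      exact ih y h.1 h.2

/-- A normal subgroup containing `z` is one of the listed masks. -/
theorem norm_classify {N : Subgroup M64} [N.Normal] (hz : M64.z ∈ N) :
    ∃ m ∈ normList, ∀ x : M64, x ∈ N ↔ inMask m x := by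
  classical
  have h0 : ∀ x : M64, inMask 0x21 x → x ∈ N := by
    intro x hx
    have hs : ((List.range 64).all fun n => !((0x21 : ℕ).testBit n) || n == 0 || n == 5) = true := by
      decide +kernel
    have h := all_lab hs x
    simp only [Bool.or_eq_true, Bool.not_eq_true', beq_iff_eq] at h
    rcases h with (h | h) | h
    · rw [inMask, h] at hx; exact Bool.noConfusion hx
    · rw [M64.ext' (h.trans M64.one_lab.symm)]; exact one_mem N
    · rw [M64.ext' (h.trans M64.z_lab.symm)]; exact hz
  set S := normList.toFinset.filter (fun m => ∀ x : M64, inMask m x → x ∈ N) with hS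
  have hne : S.Nonempty :=
    ⟨0x21, Finset.mem_filter.2 ⟨List.mem_toFinset.2 (List.contains_iff_mem.1 norm_start), h0⟩⟩
  obtain ⟨hm, hle⟩ := Finset.mem_filter.1 (S.max'_mem hne)
  set m := S.max' hne with hmdef
  refine ⟨m, List.mem_toFinset.1 hm, fun x => ⟨fun hx => ?_, hle x⟩⟩
  by_contra hb
  have hst := norm_step
  simp only [List.all_eq_true, List.mem_range, Bool.or_eq_true, Bool.and_eq_true, List.contains_iff_mem,
    Nat.blt_eq] at hst
  obtain ⟨hin, hlt⟩ := (hst m (List.mem_toFinset.1 hm) x.lab x.lab.isLt).resolve_left hb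
  obtain ⟨hy, hyN⟩ := descend_mem m 4 x.lab x.lab.isLt (by rwa [M64.of_lab])
  refine absurd (Finset.le_max' S _ (Finset.mem_filter.2 ⟨List.mem_toFinset.2 hin, fun w hw => ?_⟩)) (not_le.2 hlt)
  rcases foldl_bit _ _ _ _ hw with h | ⟨n, hn, e⟩
  · exact hle w h
  · obtain ⟨hn64, hnm⟩ := mem_members hn
    have hw' : w = M64.of (descend 4 m x.lab) * M64.of n := M64.ext' (by
      rw [M64.mul_lab, M64.of_lab_val hy, M64.of_lab_val hn64, e])
    rw [hw']
    exact N.mul_mem hyN (hle _ ((inMask_of hn64).2 hnm))

end Cfsg.Agent.H87.AltEightLocal
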