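import Cfsg.Agent.H87.AltEightLocal.Base
import Mathlib.GroupTheory.Solvable

/-!
The case in which the 2-core contains the elementary subgroup of order 16.
-/

set_option autoImplicit false
set_option linter.style.haveILetI false
set_option linter.unusedSectionVars false

namespace Cfsg.Agent.H87.AltEightLocal

open Subgroup PGroups.AltEightSylow PGroups.SmallExtraspecial

/-- Outside `E` the commutator with `E` has a kernel equal to its image, of order 4. -/
lemma comm_facts : ((List.range 48).all fun g' => (List.range 16).all fun x =>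
    let g := 16 + g'
    let c := comN g x
    Nat.blt c 16 && comN g c == 0 && (!(c == 0) || (List.range 16).any fun w => comN g w == x) &&
      (c == 0 || c == 5 || (List.range 16).all fun y =>
        comN g y == 0 || comN g y == 5 || comN g y == c || comN g y == mulN 5 c)) = true := by
  decide +kernel

/-- An element centralising the basis of `E` lies in it. -/
lemma cen_facts : ((List.range 64).all fun s =>
    !([1, 2, 4, 8].all fun x => cmB s x) || Nat.blt s 16) = true := by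
  decide +kernel

/-- Involutions and commutators in the cosets of `E`. -/
lemma coset_facts : ((List.range 16).all fun y' =>
    (!sqB (32 + y') || ((List.range 64).any fun g => conjN g (32 + y') == 32) &&
      (List.range 16).all fun e => comN (32 + y') e == 0 || comN (32 + y') e == 5 ||
        [0, 16, 32, 48].any fun g => conjN g (comN (32 + y') e) == 10) &&
    (!sqB (48 + y') || ((List.range 64).any fun g => conjN g (48 + y') == 48) &&
      (List.range 16).all fun e => comN (48 + y') e == 0 || comN (48 + y') e == 5 ||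
        [0, 16, 32, 48].any fun g => conjN g (comN (48 + y') e) == 11)) = true := by
  decide +kernel

variable {K : Type*} [Group K] (d : Emb K)

lemma comm_spec (g : M64) (hg : 16 ≤ (g.lab : ℕ)) (x : M64) (hx : (x.lab : ℕ) < 16) :
    (comN g.lab x.lab < 16) ∧ comN g.lab (comN g.lab x.lab) = 0 ∧
      (comN g.lab x.lab = 0 → ∃ w < 16, comN g.lab w = x.lab) ∧
      (comN g.lab x.lab = 0 ∨ comN g.lab x.lab = 5 ∨ ∀ y < 16, comN g.lab y = 0 ∨ comN g.lab y = 5 ∨
        comN g.lab y = comN g.lab x.lab ∨ comN g.lab y = mulN 5 (comN g.lab x.lab)) := by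
  have h := comm_facts
  simp only [List.all_eq_true, List.mem_range, Bool.and_eq_true, Bool.or_eq_true, Bool.not_eq_true',
    List.any_eq_true, beq_iff_eq, Nat.blt_eq, beq_eq_false_iff_ne, or_assoc] at h
  have h' := h (g.lab - 16) (by omega) x.lab hx
  rw [show 16 + ((g.lab : ℕ) - 16) = g.lab by omega] at h'
  exact ⟨h'.1.1.1, h'.1.1.2, fun e => h'.1.2.resolve_left fun hn => hn e, h'.2⟩

/-- An element of odd order normalising `E`, fixing `z` and a coset of `E` in the Sylow subgroup other than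
`E` itself centralises `E`. -/
theorem fix_E (hz : ∀ k : K, k * d.z = d.z * k) {r : K} (ho : Odd (orderOf r))
    (hn : ∀ x ∈ d.E, r * x * r⁻¹ ∈ d.E) {g : M64} (hg : 16 ≤ (g.lab : ℕ))
    (hc : r * d.hom g * r⁻¹ * (d.hom g)⁻¹ ∈ d.E) : ∀ x ∈ d.E, r * x * r⁻¹ = x := by
  set e := r * d.hom g * r⁻¹ * (d.hom g)⁻¹ with he
  have hgE : ∀ x ∈ d.E, d.hom g * x * (d.hom g)⁻¹ ∈ d.E := fun x hx =>
    (mem_normalizer_iff.1 (d.T_normalizes (d.mem_T g)) x).1 hx
  -- the commutator map and its equivariance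
  have hequiv : ∀ x ∈ d.E, r * (d.hom g * x * (d.hom g)⁻¹ * x⁻¹) * r⁻¹ =
      d.hom g * (r * x * r⁻¹) * (d.hom g)⁻¹ * (r * x * r⁻¹)⁻¹ := by
    intro x hx
    rw [show r * (d.hom g * x * (d.hom g)⁻¹ * x⁻¹) * r⁻¹ =
      e * (d.hom g * (r * x * r⁻¹) * (d.hom g)⁻¹) * e⁻¹ * (r * x * r⁻¹)⁻¹ by rw [he]; group,
      d.isE16_E.comm hc (hgE _ (hn x hx)), mul_inv_cancel_right]
  -- images of the commutator map are fixed
  have hW : ∀ x ∈ d.E, r * (d.hom g * x * (d.hom g)⁻¹ * x⁻¹) * r⁻¹ = d.hom g * x * (d.hom g)⁻¹ * x⁻¹ := by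
    intro x hx
    have h1 := hequiv x hx
    obtain ⟨y, hy, hye⟩ := hn x hx
    obtain ⟨a, ha, rfl⟩ := hx
    rw [← hye, hom_com, hom_com] at h1
    rw [hom_com]
    set u := g * a * g⁻¹ * a⁻¹ with hu
    set v := g * y * g⁻¹ * y⁻¹ with hv
    have hul : (u.lab : ℕ) = comN g.lab a.lab := by rw [hu, com_lab]
    have hvl : (v.lab : ℕ) = comN g.lab y.lab := by rw [hv, com_lab]
    obtain ⟨-, -, -, hcases⟩ := comm_spec g hg a (M64.mem_subE.1 ha)
    rcases hcases with h | h | h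
    · rw [show d.hom u = 1 by rw [← map_one d.hom, hom_eq d, hul, h, M64.one_lab]]; group
    · rw [show d.hom u = d.z by rw [Emb.z, hom_eq d, hul, h, M64.z_lab]]
      exact z_central_of d hz r
    · rcases h _ (M64.mem_subE.1 hy) with h2 | h2 | h2 | h2
      · rw [show d.hom v = 1 by rw [← map_one d.hom, hom_eq d, hvl, h2, M64.one_lab]] at h1
        rw [conj_eq_one_iff.1 h1]; group
      · rw [show d.hom v = d.z by rw [Emb.z, hom_eq d, hvl, h2, M64.z_lab]] at h1
        rw [conj_inj (h1.trans (z_central_of d hz r).symm)]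
        exact z_central_of d hz r
      · rw [h1, hom_eq d, hvl, hul, h2]
      · refine fix_step (s := d.z) ho (z_sq d) (z_central_of d hz r) (h1.trans ?_)
        rw [Emb.z, ← map_mul, hom_eq d, M64.mul_lab M64.z u, hvl, hul, M64.z_lab, h2]
  intro x hx
  have hx' := hn x hx
  refine fix_step (s := r * x * r⁻¹ * x⁻¹) ho (d.isE16_E.2 _ (mul_mem hx' (inv_mem hx))) ?_ (by group)
  have hs1 : d.hom g * (r * x * r⁻¹ * x⁻¹) * (d.hom g)⁻¹ * (r * x * r⁻¹ * x⁻¹)⁻¹ = 1 := by
    have h1 := (hequiv x hx).symm.trans (hW x hx)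
    rw [show d.hom g * (r * x * r⁻¹ * x⁻¹) * (d.hom g)⁻¹ * (r * x * r⁻¹ * x⁻¹)⁻¹ =
      d.hom g * (r * x * r⁻¹) * (d.hom g)⁻¹ * ((d.hom g * x⁻¹ * (d.hom g)⁻¹) * x) * (r * x * r⁻¹)⁻¹ by group,
      mul_assoc (d.hom g * (r * x * r⁻¹) * (d.hom g)⁻¹),
      d.isE16_E.comm (mul_mem (hgE _ (inv_mem hx)) hx) (inv_mem hx'), ← mul_assoc, h1,
      d.isE16_E.comm (hgE x hx) (inv_mem hx)]
    group
  obtain ⟨s, hs, hse⟩ := mul_mem hx' (inv_mem hx)
  rw [← hse] at hs1 ⊢
  rw [hom_com, ← map_one d.hom, hom_eq d, com_lab, M64.one_lab] at hs1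
  obtain ⟨w, hw, hwe⟩ := (comm_spec g hg s (M64.mem_subE.1 hs)).2.2.1 hs1
  have h := hW (d.hom (M64.of w)) (d.hom_mem_E.2 (by rw [M64.of_lab_val (by omega)]; exact hw))
  rwa [hom_com, show d.hom (g * M64.of w * g⁻¹ * (M64.of w)⁻¹) = d.hom s by
    rw [hom_eq d, com_lab, M64.of_lab_val (by omega), hwe]] at h

variable [Finite K]

/-- `E` is normal if it lies in the 2-core. -/
lemma E_normal (hE : d.E ≤ Cfsg.pCore 2 K) : d.E.Normal := ⟨fun x hx k => by
  have h := d.unique16 Cores.pCore_isPGroup (d.isE16_E.conj k) d.isE16_E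
    (by rintro _ ⟨a, ha, rfl⟩; exact Normal.conj_mem inferInstance a (hE ha) k) hE
  rw [← h]; exact ⟨x, hx, rfl⟩⟩

/-- An element of odd order centralising `E` is trivial. -/
lemma odd_cen_E (hc : centralizer (Cfsg.pCore 2 K : Set K) ≤ Cfsg.pCore 2 K) (hE : d.E ≤ Cfsg.pCore 2 K)
    {r : K} (ho : Odd (orderOf r)) (h : ∀ x ∈ d.E, r * x * r⁻¹ = x) : r = 1 := by
  haveI := E_normal d hE
  refine odd_fix_core hc ho fun x hx => ?_
  set s := r * x * r⁻¹ * x⁻¹ with hs
  have hsQ : s ∈ Cfsg.pCore 2 K := mul_mem (Normal.conj_mem inferInstance x hx r) (inv_mem hx)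
  have hsc : ∀ e ∈ d.E, s * e = e * s := by
    intro e he
    have he1 := h _ (Normal.conj_mem inferInstance e he x⁻¹)
    refine mul_inv_eq_iff_eq_mul.1 ?_
    calc s * e * s⁻¹ = r * x * r⁻¹ * (x⁻¹ * e * x⁻¹⁻¹) * (r * x * r⁻¹)⁻¹ := by rw [hs]; group
      _ = r * x * r⁻¹ * (r * (x⁻¹ * e * x⁻¹⁻¹) * r⁻¹) * (r * x * r⁻¹)⁻¹ := by rw [he1]
      _ = r * e * r⁻¹ := by group
      _ = e := h e he
  obtain ⟨y, hy⟩ := core_le d hsQ
  have hyE : (y.lab : ℕ) < 16 := by
    have hf := all_lab cen_facts y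
    simp only [Bool.or_eq_true, Bool.not_eq_true', Nat.blt_eq] at hf
    refine hf.resolve_left fun h0 => ?_
    rw [List.all_eq_false] at h0
    obtain ⟨n, hn, hne⟩ := h0
    have hn16 : n < 16 := by simp at hn; omega
    refine hne ?_
    rw [← M64.of_lab_val (show n < 64 by omega), M64.cmB_iff]
    apply d.inj
    rw [map_mul, map_mul, hy]
    exact hsc _ (d.hom_mem_E.2 (by rw [M64.of_lab_val (by omega)]; exact hn16))
  have hsE : s ∈ d.E := hy ▸ d.hom_mem_E.2 hyE
  exact fix_step (s := s) ho (d.isE16_E.2 s hsE) (h s hsE) (by rw [hs]; group)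

/-- An element of odd order fixing a coset of `E` in the Sylow subgroup other than `E` is trivial. -/
lemma odd_fix_coset (hz : ∀ k : K, k * d.z = d.z * k)
    (hc : centralizer (Cfsg.pCore 2 K : Set K) ≤ Cfsg.pCore 2 K) (hE : d.E ≤ Cfsg.pCore 2 K)
    {r : K} (ho : Odd (orderOf r)) {g : M64} (hg : 16 ≤ (g.lab : ℕ))
    (hr : r * d.hom g * r⁻¹ * (d.hom g)⁻¹ ∈ d.E) : r = 1 :=
  odd_cen_E d hc hE ho (fix_E d hz ho (fun x hx => (E_normal d hE).conj_mem x hx r) hg hr)

include d in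
lemma card_of_two (h : IsPGroup 2 (⊤ : Subgroup K)) : Nat.card K = 64 := by
  rw [← Subgroup.card_top, d.maxl ⊤ h le_top]
  exact d.card_T

/-- The 2-core is not `E`. -/
theorem core_ne_E (hsol : Group.IsSolvable K) (hz : ∀ k : K, k * d.z = d.z * k)
    (hc : centralizer (Cfsg.pCore 2 K : Set K) ≤ Cfsg.pCore 2 K) (hQ : Cfsg.pCore 2 K = d.E) : False := by
  haveI := hsol
  haveI hEn : d.E.Normal := E_normal d hQ.ge
  have hcore : Cfsg.pCore 2 (K ⧸ d.E) = ⊥ := by
    have h := Cores.comap_pCore_quotient (p := 2) d.E (IsPGroup.of_card (n := 4) (by rw [d.isE16_E.1]; norm_num))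
    refine eq_bot_iff.2 fun q hq => ?_
    obtain ⟨k, rfl⟩ := QuotientGroup.mk'_surjective d.E q
    have hk : k ∈ Cfsg.pCore 2 K := h ▸ mem_comap.2 hq
    rw [hQ] at hk
    exact mem_bot.2 ((QuotientGroup.eq_one_iff k).2 hk)
  haveI : Group.IsSolvable (K ⧸ d.E) := Group.isSolvable_of_surjective (QuotientGroup.mk'_surjective d.E)
  have hne : (⊤ : Subgroup (K ⧸ d.E)) ≠ ⊥ := by
    intro h
    have hmem : QuotientGroup.mk' d.E (d.hom (M64.of 16)) ∈ (⊥ : Subgroup (K ⧸ d.E)) := h ▸ mem_top _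
    rw [mem_bot, QuotientGroup.mk'_apply, QuotientGroup.eq_one_iff, d.hom_mem_E,
      M64.of_lab_val (by norm_num)] at hmem
    omega
  -- a nontrivial abelian normal subgroup
  obtain ⟨M, hMn, hMne, hMc⟩ : ∃ M : Subgroup (K ⧸ d.E), M.Normal ∧ M ≠ ⊥ ∧ ∀ a ∈ M, ∀ b ∈ M, a * b = b * a := by
    classical
    have hex := (Group.isSolvable_def _).1 (inferInstance : Group.IsSolvable (K ⧸ d.E))
    obtain ⟨n, hn⟩ : ∃ n, Nat.find hex = n + 1 := by
      rcases hf : Nat.find hex with - | n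
      · have := Nat.find_spec hex; rw [hf, derivedSeries_zero] at this; exact absurd this hne
      · exact ⟨n, rfl⟩
    refine ⟨derivedSeries _ n, derivedSeries_normal _ n, Nat.find_min hex (by omega), fun a ha b hb => ?_⟩
    have := Nat.find_spec hex
    rw [hn, derivedSeries_succ, commutator_eq_bot_iff_le_centralizer] at this
    exact (this ha b hb).symm
  have hodd : ∀ m ∈ M, Odd (orderOf m) := by
    let M2 : Subgroup (K ⧸ d.E) :=
      { carrier := {x | x ∈ M ∧ x * x = 1}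
        one_mem' := ⟨one_mem _, mul_one 1⟩
        mul_mem' := fun {a b} ha hb => ⟨mul_mem ha.1 hb.1, by
          rw [mul_assoc a b, ← mul_assoc b a b, hMc b hb.1 a ha.1, mul_assoc a b b, hb.2, mul_one, ha.2]⟩
        inv_mem' := fun {a} ha => ⟨inv_mem ha.1, by rw [← mul_inv_rev, ha.2, inv_one]⟩ }
    have hM2n : M2.Normal := ⟨fun x hx g => ⟨hMn.conj_mem x hx.1 g, by
      rw [show g * x * g⁻¹ * (g * x * g⁻¹) = g * (x * x) * g⁻¹ by group, hx.2]; group⟩⟩
    have hM2 : M2 = ⊥ := by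
      rw [eq_bot_iff, ← hcore]
      exact Cores.le_pCore fun x => ⟨1, Subtype.ext (by simpa [pow_two] using x.2.2)⟩
    intro m hm
    by_contra hev
    obtain ⟨j, hj⟩ := Nat.not_odd_iff_even.1 hev
    have hmem : m ^ j ∈ M2 := ⟨pow_mem hm j, by rw [← pow_add, ← hj, pow_orderOf_eq_one]⟩
    rw [hM2, mem_bot] at hmem
    have := Nat.le_of_dvd (by have := orderOf_pos m; omega) (orderOf_dvd_of_pow_eq_one hmem)
    have := orderOf_pos m
    omega
  refine hMne ?_
  have hfix : ∀ g : M64, 16 ≤ (g.lab : ℕ) → ∀ m ∈ M,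
      QuotientGroup.mk' d.E (d.hom g) * m = m * QuotientGroup.mk' d.E (d.hom g) → m = 1 := by
    intro g hg m hm hcomm
    obtain ⟨k, rfl⟩ := QuotientGroup.mk'_surjective d.E m
    obtain ⟨a, ha⟩ := exists_odd_pow k
    have hr1 : k ^ 2 ^ a = 1 := by
      refine odd_fix_coset d hz hc hQ.ge ha hg ((QuotientGroup.eq_one_iff _).1 ?_)
      have h2 : Commute (QuotientGroup.mk' d.E (d.hom g)) (QuotientGroup.mk' d.E k ^ 2 ^ a) :=
        Commute.pow_right hcomm _
      show QuotientGroup.mk' d.E (k ^ 2 ^ a * d.hom g * (k ^ 2 ^ a)⁻¹ * (d.hom g)⁻¹) = 1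
      rw [map_mul, map_mul, map_mul, map_inv, map_inv, map_pow, ← h2.eq]
      group
    refine eq_one_of_odd (P := zpowers (QuotientGroup.mk' d.E k)) ?_ (mem_zpowers _) (hodd _ hm)
    obtain ⟨j, -, hj⟩ := (Nat.dvd_prime_pow Nat.prime_two).1
      (orderOf_dvd_of_pow_eq_one (x := QuotientGroup.mk' d.E k) (n := 2 ^ a) (by rw [← map_pow, hr1, map_one]))
    exact IsPGroup.of_card (n := j) (by rw [Nat.card_zpowers, hj])
  have hy : ∀ n : ℕ, n < 64 → sqB n = true →
      QuotientGroup.mk' d.E (d.hom (M64.of n)) * QuotientGroup.mk' d.E (d.hom (M64.of n)) = 1 := by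
    intro n hn hs
    rw [← map_mul, ← map_mul, M64.sqB_iff.1 (by rwa [M64.of_lab_val hn]), map_one, map_one]
  refine eq_bot_of_four (hy 16 (by norm_num) (by decide +kernel)) (hy 32 (by norm_num) (by decide +kernel))
    (fun n hn => hMn.conj_mem n hn _) (fun n hn => hMn.conj_mem n hn _)
    (hfix _ (by rw [M64.of_lab_val (by norm_num)])) (hfix _ (by rw [M64.of_lab_val (by norm_num)]; omega)) ?_
  rw [← map_mul, ← map_mul]
  exact hfix _ (by rw [M64.mul_lab, M64.of_lab_val (by norm_num), M64.of_lab_val (by norm_num)]; decide +kernel)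

/-- The 2-core is `E` extended by one coset. -/
theorem core_two_cosets (hz : ∀ k : K, k * d.z = d.z * k)
    (hc : centralizer (Cfsg.pCore 2 K : Set K) ≤ Cfsg.pCore 2 K) (hE : d.E ≤ Cfsg.pCore 2 K) {g : M64}
    (hg : 16 ≤ (g.lab : ℕ)) (hgQ : d.hom g ∈ Cfsg.pCore 2 K)
    (hcos : ∀ x ∈ Cfsg.pCore 2 K, x ∈ d.E ∨ x * (d.hom g)⁻¹ ∈ d.E) : Nat.card K = 64 := by
  refine card_of_two d (isPGroup_of_odd fun r _ ho => ?_)
  refine odd_fix_coset d hz hc hE ho hg ((hcos _ (Normal.conj_mem inferInstance _ hgQ r)).resolve_left fun h => ?_)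
  have := (E_normal d hE).conj_mem _ h r⁻¹
  rw [show r⁻¹ * (r * d.hom g * r⁻¹) * r⁻¹⁻¹ = d.hom g by group, d.hom_mem_E] at this
  omega

/-- The 2-core is the Sylow subgroup. -/
theorem core_top (hz : ∀ k : K, k * d.z = d.z * k)
    (hc : centralizer (Cfsg.pCore 2 K : Set K) ≤ Cfsg.pCore 2 K) (hQ : Cfsg.pCore 2 K = d.T) :
    Nat.card K = 64 ∨ d.ShapeE := by
  classical
  have hE : d.E ≤ Cfsg.pCore 2 K := hQ ▸ d.E_le
  haveI hEn := E_normal d hE
  set q := QuotientGroup.mk' d.E with hq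
  set a := d.hom (M64.of 16) with ha
  set H := (centralizer ({q a} : Set (K ⧸ d.E))).comap q with hH
  have hHE : ∀ k ∈ H, k * a * k⁻¹ * a⁻¹ ∈ d.E := by
    intro k hk
    refine (QuotientGroup.eq_one_iff _).1 ?_
    have h2 := mem_centralizer_singleton_iff.1 (mem_comap.1 hk)
    show q (k * a * k⁻¹ * a⁻¹) = 1
    rw [map_mul, map_mul, map_mul, map_inv, map_inv, h2]
    group
  have hTab : ∀ x y : M64, ((x * y).lab : ℕ) / 16 = ((y * x).lab : ℕ) / 16 := by
    intro x y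
    rw [M64.mul_lab, M64.mul_lab, mulN, mulN]
    have hl : ∀ u v : ℕ, u < 64 → v < 64 → u % 16 ^^^ actN (u / 16) (v % 16) < 16 := fun u v hu hv =>
      Nat.xor_lt_two_pow (n := 4) (Nat.mod_lt _ (by norm_num)) (M64.act_lt (by omega) (Nat.mod_lt _ (by norm_num)))
    rw [Nat.add_mul_div_left _ _ (by norm_num : (0 : ℕ) < 16),
      Nat.add_mul_div_left _ _ (by norm_num : (0 : ℕ) < 16), Nat.div_eq_of_lt (hl _ _ x.lab.isLt y.lab.isLt),
      Nat.div_eq_of_lt (hl _ _ y.lab.isLt x.lab.isLt), Nat.xor_comm]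
  have hdivE : ∀ x y : M64, ((x * y⁻¹).lab : ℕ) < 16 ↔ (x.lab : ℕ) / 16 = (y.lab : ℕ) / 16 := by
    intro x y
    have h1 : ((x * y⁻¹).lab : ℕ) / 16 = (x.lab : ℕ) / 16 ^^^ (y.lab : ℕ) / 16 := by
      rw [M64.mul_lab, mulN, M64.inv_lab, invN, Nat.add_mul_div_left _ _ (by norm_num : (0 : ℕ) < 16),
        Nat.add_mul_div_left _ _ (by norm_num : (0 : ℕ) < 16), Nat.add_mul_mod_self_left]
      have hb := M64.act_lt (p := y.lab / 16) (a := y.lab % 16) (by omega) (Nat.mod_lt _ (by norm_num))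
      rw [Nat.div_eq_of_lt hb, zero_add, Nat.mod_eq_of_lt hb, Nat.div_eq_of_lt, zero_add]
      exact Nat.xor_lt_two_pow (n := 4) (Nat.mod_lt _ (by norm_num)) (M64.act_lt (by omega) hb)
    rw [← Nat.div_eq_zero_iff_lt (by norm_num : 0 < 16), h1, Nat.xor_eq_zero_iff]
  have hTH : d.T ≤ H := by
    rintro _ ⟨x, rfl⟩
    refine mem_comap.2 (mem_centralizer_singleton_iff.2 ?_)
    rw [ha, ← map_mul q, ← map_mul q, ← map_mul d.hom, ← map_mul d.hom, hq, QuotientGroup.mk'_eq_mk']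
    refine ⟨((d.hom (M64.of 16 * x))⁻¹ * d.hom (x * M64.of 16))⁻¹, inv_mem ?_, by group⟩
    have hmem : d.hom (x * M64.of 16) * (d.hom (M64.of 16 * x))⁻¹ ∈ d.E := by
      rw [← map_inv, ← map_mul, d.hom_mem_E]; exact (hdivE _ _).2 (hTab _ _)
    have := hEn.conj_mem _ hmem (d.hom (M64.of 16 * x))⁻¹
    rwa [inv_inv, mul_assoc, inv_mul_cancel_right] at this
  have hHT : H = d.T := by
    refine d.maxl H (isPGroup_of_odd fun r hr ho => ?_) hTH
    exact odd_fix_coset d hz hc hE ho (by rw [M64.of_lab_val (by norm_num)]) (hHE r hr)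
  -- the coset of a conjugate
  have hconj : ∀ k : K, ∃ y : M64, d.hom y = k * a * k⁻¹ ∧ 16 ≤ (y.lab : ℕ) := by
    intro k
    have h1 : k * a * k⁻¹ ∈ Cfsg.pCore 2 K :=
      Normal.conj_mem inferInstance _ (hQ ▸ d.mem_T (M64.of 16)) k
    rw [hQ] at h1
    obtain ⟨y, hy⟩ := h1
    refine ⟨y, hy, ?_⟩
    by_contra hlt
    have := hEn.conj_mem _ (hy ▸ d.hom_mem_E.2 (not_le.1 hlt)) k⁻¹
    rw [show k⁻¹ * (k * a * k⁻¹) * k⁻¹⁻¹ = a by group, ha, d.hom_mem_E, M64.of_lab_val (by norm_num)] at this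
    omega
  choose y hy hy16 using hconj
  let f : K ⧸ H → Fin 3 := fun c => ⟨((y c.out).lab : ℕ) / 16 - 1, by have := (y c.out).lab.isLt; omega⟩
  have hf : Function.Injective f := by
    intro c₁ c₂ h
    have h' : ((y c₁.out).lab : ℕ) / 16 = ((y c₂.out).lab : ℕ) / 16 := by
      have := congrArg Fin.val h
      have := hy16 c₁.out; have := hy16 c₂.out
      simp only [f] at *
      omega
    have hmem : d.hom (y c₁.out * (y c₂.out)⁻¹) ∈ d.E := d.hom_mem_E.2 ((hdivE _ _).2 h')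
    rw [map_mul, map_inv, hy, hy] at hmem
    rw [← c₁.out_eq', ← c₂.out_eq', QuotientGroup.eq]
    refine mem_comap.2 (mem_centralizer_singleton_iff.2 ?_)
    have h1 := (QuotientGroup.eq_one_iff _).2 (hEn.conj_mem _ hmem c₁.out⁻¹)
    change q (c₁.out⁻¹ * (c₁.out * a * c₁.out⁻¹ * (c₂.out * a * c₂.out⁻¹)⁻¹) * c₁.out⁻¹⁻¹) = 1 at h1
    rw [show c₁.out⁻¹ * (c₁.out * a * c₁.out⁻¹ * (c₂.out * a * c₂.out⁻¹)⁻¹) * c₁.out⁻¹⁻¹ =
      a * (c₁.out⁻¹ * c₂.out * a * (c₁.out⁻¹ * c₂.out)⁻¹)⁻¹ by group, map_mul, map_inv, mul_inv_eq_one,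
      map_mul, map_mul, map_inv] at h1
    exact eq_mul_inv_iff_mul_eq.1 h1 |>.symm
  have hK : Nat.card K = H.index * 64 := by rw [← H.index_mul_card, hHT, d.card_T]
  have hle : H.index ≤ 3 := (Nat.card_le_card_of_injective f hf).trans_eq (Nat.card_fin 3)
  have hoddI : ¬ 2 ∣ H.index := by
    haveI : Fact (Nat.Prime 2) := ⟨Nat.prime_two⟩
    rw [hHT]; exact Sylow.not_dvd_index d.sylow
  rcases (show H.index = 1 ∨ H.index = 3 by omega) with h1 | h3
  · exact Or.inl (by rw [hK, h1])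
  refine Or.inr ?_
  have hsurj : Function.Surjective f :=
    (hf.bijective_of_nat_card_le (by rw [Nat.card_fin]; exact h3.ge)).surjective
  have htarget : ∀ i : Fin 3, ∃ k : K, ((y k).lab : ℕ) / 16 = i + 1 ∧ sqB (y k).lab = true := by
    intro i
    obtain ⟨c, hc⟩ := hsurj i
    refine ⟨c.out, ?_, M64.sqB_iff.2 (d.inj ?_)⟩
    · have := congrArg Fin.val hc; have := hy16 c.out
      simp only [f] at *
      omega
    · rw [map_mul, map_one, hy, show c.out * a * c.out⁻¹ * (c.out * a * c.out⁻¹) = c.out * (a * a) * c.out⁻¹ by group,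
        ha, ← map_mul, M64.sqB_iff.1 (by rw [M64.of_lab_val (by norm_num)]; decide +kernel), map_one]
      group
  have hconjT : ∀ g n m : ℕ, n < 64 → m < 64 → conjN (M64.of g).lab n = m →
      IsConj (d.hom (M64.of n)) (d.hom (M64.of m)) := fun g n m hn hm h => by
    refine isConj_iff.2 ⟨d.hom (M64.of g), ?_⟩
    rw [← map_inv, ← map_mul, ← map_mul, hom_eq d, M64.conj_lab, M64.of_lab_val hn, M64.of_lab_val hm, h]
  have hmain : ∀ (n t : ℕ) (k : K), sqB n = true → n < 64 → t < 64 → d.hom (y k) = d.hom (M64.of n) →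
      ((List.range 64).any fun g => conjN g n == t) = true → IsConj a (d.hom (M64.of t)) := by
    intro n t k _ hn ht hk hany
    simp only [List.any_eq_true, List.mem_range, beq_iff_eq] at hany
    obtain ⟨g, hg, hge⟩ := hany
    refine IsConj.trans (isConj_iff.2 ⟨k, ?_⟩) (hconjT g n t hn ht (by rw [M64.of_lab_val hg, hge]))
    rw [← hy, hk]
  have hmain' : ∀ (k : K) (t : ℕ), t < 64 → ((List.range 16).all fun e => comN (y k).lab e == 0 ||
      comN (y k).lab e == 5 || [0, 16, 32, 48].any fun g => conjN g (comN (y k).lab e) == t) = true →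
      IsConj (d.hom (M64.of 1)) (d.hom (M64.of t)) := by
    intro k t ht hall
    obtain ⟨e, he, hee⟩ := hEn.conj_mem (d.hom (M64.of 2)) (d.hom_mem_E.2 (by
      rw [M64.of_lab_val (by norm_num)]; norm_num)) k
    have h1 : d.hom (M64.of 1) = a * d.hom (M64.of 2) * a⁻¹ * (d.hom (M64.of 2))⁻¹ := by
      rw [ha, hom_com, hom_eq d, com_lab]
      simp only [M64.of_lab_val (show 16 < 64 by norm_num), M64.of_lab_val (show 2 < 64 by norm_num),
        M64.of_lab_val (show 1 < 64 by norm_num)]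
      decide +kernel
    have hk1 : k * d.hom (M64.of 1) * k⁻¹ = d.hom (y k * e * (y k)⁻¹ * e⁻¹) := by
      rw [← hom_com, hy, hee, h1]; group
    simp only [List.all_eq_true, List.mem_range, Bool.or_eq_true, List.any_eq_true, beq_iff_eq] at hall
    have hl : ((y k * e * (y k)⁻¹ * e⁻¹).lab : ℕ) = comN (y k).lab e.lab := com_lab _ _
    rcases hall e.lab (M64.mem_subE.1 he) with (h0 | h5) | ⟨g, hg, hge⟩
    · exfalso
      rw [show d.hom (y k * e * (y k)⁻¹ * e⁻¹) = 1 by rw [← map_one d.hom, hom_eq d, hl, h0, M64.one_lab],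
        conj_eq_one_iff, ← map_one d.hom, hom_eq d, M64.of_lab_val (by norm_num), M64.one_lab] at hk1
      omega
    · exfalso
      rw [show d.hom (y k * e * (y k)⁻¹ * e⁻¹) = d.z by rw [Emb.z, hom_eq d, hl, h5, M64.z_lab]] at hk1
      have := conj_inj (hk1.trans (z_central_of d hz k).symm)
      rw [Emb.z, hom_eq d, M64.of_lab_val (by norm_num), M64.z_lab] at this
      omega
    · have hg64 : g < 64 := by simp at hg; omega
      refine IsConj.trans (isConj_iff.2 ⟨k, hk1⟩) (isConj_iff.2 ⟨d.hom (M64.of g), ?_⟩)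
      rw [← map_inv, ← map_mul, ← map_mul, hom_eq d, M64.conj_lab, hl, M64.of_lab_val hg64, M64.of_lab_val ht, hge]
  have hcf := coset_facts
  simp only [List.all_eq_true, List.mem_range, Bool.and_eq_true] at hcf
  obtain ⟨k₂, hk₂, hs₂⟩ := htarget 1
  obtain ⟨k₃, hk₃, hs₃⟩ := htarget 2
  have e2 : ((y k₂).lab : ℕ) = 32 + ((y k₂).lab : ℕ) % 16 := by
    have : ((1 : Fin 3) : ℕ) = 1 := rfl
    omega
  have e3 : ((y k₃).lab : ℕ) = 48 + ((y k₃).lab : ℕ) % 16 := by
    have : ((2 : Fin 3) : ℕ) = 2 := rfl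
    omega
  have f2 := (hcf _ (Nat.mod_lt ((y k₂).lab : ℕ) (show 16 > 0 by norm_num))).1
  have f3 := (hcf _ (Nat.mod_lt ((y k₃).lab : ℕ) (show 16 > 0 by norm_num))).2
  rw [← e2, hs₂, Bool.not_true, Bool.false_or, Bool.and_eq_true] at f2
  rw [← e3, hs₃, Bool.not_true, Bool.false_or, Bool.and_eq_true] at f3
  exact
    { card := by rw [hK, h3]
      normal := fun k => mem_normalizer_of_conj_mem fun x hx => hEn.conj_mem x hx k
      e₁₂ := hmain' k₂ 10 (by norm_num) f2.2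
      e₁₃ := hmain' k₃ 11 (by norm_num) f3.2
      v₁₂ := hmain _ 32 k₂ hs₂ (y k₂).lab.isLt (by norm_num) (by rw [M64.of_lab]) f2.1
      v₁₃ := hmain _ 48 k₃ hs₃ (y k₃).lab.isLt (by norm_num) (by rw [M64.of_lab]) f3.1 }

end Cfsg.Agent.H87.AltEightLocal
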