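import Cfsg.Agent.H87.AltEightLocal.QAct

/-!
The shapes arising when the 2-core is the extraspecial subgroup of order 32.
-/

set_option autoImplicit false
set_option linter.style.haveILetI false
set_option linter.unusedSectionVars false

namespace Cfsg.Agent.H87.AltEightLocal

open Subgroup PGroups.AltEightSylow Equiv

lemma perm3_facts : (∀ p : Perm (Fin 3), p ^ 3 = 1 → p ≠ 1 → ∀ b, b = 0 ∨ b = p 0 ∨ b = p (p 0)) ∧
    (∀ p q : Perm (Fin 3), p 0 = 0 → q 0 = 0 → q ≠ 1 → p = 1 ∨ p = q) ∧
    (∀ p : Perm (Fin 3), p ^ 2 ≠ 1 → p ^ 3 = 1) := by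
  refine ⟨?_, ?_, ?_⟩ <;> decide +kernel

/-- Members of `Q` are products of two fixed labels. -/
lemma Q_span : ((members mQ).all fun x =>
    (0 :: 5 :: ((List.finRange 3).flatMap fun i => (List.finRange 3).flatMap fun b => [pt i b, mulN 5 (pt i b)])).any
      fun a => (0 :: 5 :: ((List.finRange 3).flatMap fun i => (List.finRange 3).flatMap fun b =>
        [pt i b, mulN 5 (pt i b)])).any fun c => mulN a c == x) = true := by
  decide +kernel

/-- An element outside the centre is told apart by the meets on one line. -/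
lemma fpf_fact : ((members mQ).all fun v => v == 0 || v == 5 || (List.finRange 3).any fun i =>
    (List.finRange 3).any fun b => !(cmB v (pt i b) == cmB v (pt i 0))) = true := by
  decide +kernel

/-- An element of the model exchanging two lines of the second ruling. -/
lemma swap_fact : ((members mQ).any fun x =>
    !((ln 4).testBit x == (ln 4).testBit (conjN 2 x))) = true := by
  decide +kernel

/-- A meet is conjugate to its translate by the centre. -/
lemma pt_flip : ((List.finRange 3).all fun i => (List.finRange 3).all fun b =>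
    (List.range 64).any fun g => conjN g (pt i b) == mulN 5 (pt i b)) = true := by
  decide +kernel

/-- The six elements outside the centre of a line of the first ruling are meets or their translates. -/
lemma six_cover : ((List.finRange 3).all fun i => (List.range 64).all fun x =>
    !((mV i.val).testBit x) || x == 0 || x == 5 ||
      (List.finRange 3).any fun b => x == pt i b || x == mulN 5 (pt i b)) = true := by
  decide +kernel

lemma mask_facts : ((List.range 64).all fun x =>
    ((!((mV 0).testBit x) || mQ.testBit x) && (!((mV 1).testBit x) || mQ.testBit x) &&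
      (!((mV 2).testBit x) || mQ.testBit x)) &&
      ((decide (x < 16) && mQ.testBit x) == (ln 3).testBit x)) = true ∧
    mV 0 = ln 0 ∧ mV 1 = ln 1 ∧ mV 2 = ln 2 := by
  refine ⟨?_, ?_, ?_, ?_⟩ <;> decide +kernel

lemma mV_eq (i : Fin 3) : mV i.val = ln ⟨i.val, i.isLt.trans (by norm_num)⟩ := by
  fin_cases i
  exacts [mask_facts.2.1, mask_facts.2.2.1, mask_facts.2.2.2]

lemma mV_le (i : Fin 3) {x : M64} (hx : inMask (mV i.val) x) : inMask mQ x := by
  have h := all_lab mask_facts.1 x
  simp only [Bool.and_eq_true, Bool.or_eq_true, Bool.not_eq_true'] at h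
  rcases i with ⟨i, hi⟩
  interval_cases i
  · exact h.1.1.1.resolve_left fun e => by rw [inMask, e] at hx; exact Bool.noConfusion hx
  · exact h.1.1.2.resolve_left fun e => by rw [inMask, e] at hx; exact Bool.noConfusion hx
  · exact h.1.2.resolve_left fun e => by rw [inMask, e] at hx; exact Bool.noConfusion hx

variable {K : Type*} [Group K] [Finite K] {d : Emb K} (hQ : CoreQ d) (hz : ∀ k : K, k * d.z = d.z * k)

lemma alp_T {x : K} (hx : x ∈ d.T) : alp hQ hz x = 1 := by
  obtain ⟨g, rfl⟩ := hx
  refine Equiv.ext fun i => Fin.ext ?_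
  show (alp hQ hz (d.hom g) i).val = i.val
  exact congrArg (fun j : Fin 6 => j.val) ((alp_val hQ hz _ i).trans (sig_T hQ hz g (j := ⟨i, i.isLt.trans (by norm_num)⟩)
    (show i.val < 4 by omega)))

lemma bet_T {x : K} (hx : x ∈ d.T) : bet hQ hz x 0 = 0 := by
  obtain ⟨g, rfl⟩ := hx
  refine Fin.ext ?_
  have h := congrArg Fin.val ((bet_val hQ hz (d.hom g) 0).trans
    (sig_T hQ hz g (j := ⟨3 + (0 : Fin 3).val, by norm_num⟩) (by norm_num)))
  simp only at h
  omega

lemma bet_two : bet hQ hz (d.hom (M64.of 2)) ≠ 1 := by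
  intro h
  have h2 := bet_val hQ hz (d.hom (M64.of 2)) 1
  simp only [h, Perm.one_apply] at h2
  have hs : sig hQ hz (d.hom (M64.of 2)) 4 = 4 := h2.symm
  have hw := swap_fact
  simp only [List.any_eq_true, Bool.not_eq_true', beq_eq_false_iff_ne] at hw
  obtain ⟨n, hn, hne⟩ := hw
  obtain ⟨hn64, hnQ⟩ := mem_members hn
  have hx : inMask mQ (M64.of n) := (inMask_of hn64).2 hnQ
  have h3 := sig_spec hQ hz (d.hom (M64.of 2)) 4 hx
  rw [hs] at h3
  have e : kap d hQ (d.hom (M64.of 2)) (M64.of n) = M64.of 2 * M64.of n * (M64.of 2)⁻¹ := d.inj (by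
    rw [(kap_spec hQ _ hx).2, map_mul, map_mul, map_inv])
  rw [e, inMask, inMask, M64.conj_lab, M64.of_lab_val hn64, M64.of_lab_val (show 2 < 64 by norm_num),
    ← Bool.eq_iff_iff] at h3
  exact hne h3

/-- An odd element fixing all lines is trivial. -/
lemma odd_kernel (hc : centralizer (Cfsg.pCore 2 K : Set K) ≤ Cfsg.pCore 2 K) {r : K} (ho : Odd (orderOf r))
    (ha : alp hQ hz r = 1) (hb : bet hQ hz r = 1) : r = 1 := by
  refine odd_fix_core hc ho ?_
  have hpt : ∀ i b, r * d.hom (ptM i b) * r⁻¹ = d.hom (ptM i b) := by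
    intro i b
    have hm := (pt_spec i b).2.1
    rcases kap_pt hQ hz r i b with h | h <;> rw [ha, hb, Perm.one_apply, Perm.one_apply] at h
    · rw [← (kap_spec hQ r hm).2, h]
    · refine fix_step (s := d.z) ho (z_sq d) (z_central_of d hz r) ?_
      rw [← (kap_spec hQ r hm).2, h, map_mul, Emb.z]
  have hlab : ∀ a ∈ (0 :: 5 :: ((List.finRange 3).flatMap fun i => (List.finRange 3).flatMap fun b =>
      [pt i b, mulN 5 (pt i b)])), ∀ w : M64, (w.lab : ℕ) = a → r * d.hom w * r⁻¹ = d.hom w := by
    intro a ha w hw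
    simp only [List.mem_cons, List.mem_flatMap, List.mem_finRange, true_and, List.not_mem_nil, or_false] at ha
    rcases ha with rfl | rfl | ⟨i, b, rfl | rfl⟩
    · rw [M64.ext' (hw.trans M64.one_lab.symm), map_one]; group
    · rw [M64.ext' (hw.trans M64.z_lab.symm)]; exact z_central_of d hz r
    · rw [show w = ptM i b from M64.ext' (by rw [hw, ptM, M64.of_lab_val (pt_spec i b).1])]; exact hpt i b
    · rw [show w = M64.z * ptM i b from M64.ext' (by rw [M64.mul_lab, M64.z_lab, hw, ptM, M64.of_lab_val (pt_spec i b).1]),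
        map_mul]
      calc r * (d.hom M64.z * d.hom (ptM i b)) * r⁻¹ = r * d.z * r⁻¹ * (r * d.hom (ptM i b) * r⁻¹) := by
            rw [Emb.z]; group
        _ = _ := by rw [z_central_of d hz, hpt, Emb.z]
  intro x hx
  obtain ⟨y, rfl⟩ := core_le d hx
  have h := Q_span
  simp only [List.all_eq_true, List.any_eq_true, beq_iff_eq] at h
  obtain ⟨a, ha', c, hc', e⟩ := h _ (lab_mem y ((hQ y).1 hx))
  have hb64 : ∀ a ∈ (0 :: 5 :: ((List.finRange 3).flatMap fun i => (List.finRange 3).flatMap fun b =>
      [pt i b, mulN 5 (pt i b)])), a < 64 := by decide +kernel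
  rw [show y = M64.of a * M64.of c from M64.ext' (by
    rw [M64.mul_lab, M64.of_lab_val (hb64 a ha'), M64.of_lab_val (hb64 c hc'), e]), map_mul]
  calc r * (d.hom (M64.of a) * d.hom (M64.of c)) * r⁻¹ =
      r * d.hom (M64.of a) * r⁻¹ * (r * d.hom (M64.of c) * r⁻¹) := by group
    _ = _ := by rw [hlab a ha' _ (M64.of_lab_val (hb64 a ha')), hlab c hc' _ (M64.of_lab_val (hb64 c hc'))]

/-- The kernel of both actions is the 2-core. -/
lemma ker_eq (hc : centralizer (Cfsg.pCore 2 K : Set K) ≤ Cfsg.pCore 2 K) :
    (alp hQ hz).ker ⊓ (bet hQ hz).ker = Cfsg.pCore 2 K := by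
  refine le_antisymm (Cores.le_pCore (isPGroup_of_odd fun r hr ho =>
    odd_kernel hQ hz hc ho hr.1 hr.2)) fun x hx => ?_
  obtain ⟨y, rfl⟩ := core_le d hx
  refine ⟨alp_T hQ hz (d.mem_T y), Equiv.ext fun b => Fin.ext ?_⟩
  have h : sig hQ hz (d.hom y) ⟨3 + b.val, by omega⟩ = ⟨3 + b.val, by omega⟩ := by
    refine rel_unique hQ (sigFun_spec hQ hz (d.hom y) _) fun x hx' => ?_
    have e : kap d hQ (d.hom y) x = y * x * y⁻¹ := d.inj (by
      rw [(kap_spec hQ _ hx').2, map_mul, map_mul, map_inv])
    have key : ((members mQ).all fun g => (List.finRange 6).all fun j => (members mQ).all fun x =>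
        (ln j).testBit x == (ln j).testBit (conjN g x)) = true := by
      decide +kernel
    simp only [List.all_eq_true, List.mem_finRange, forall_const, beq_iff_eq] at key
    rw [e, inMask, inMask, M64.conj_lab, key _ (lab_mem y ((hQ y).1 hx)) _ _ (lab_mem x hx')]
  have h2 := congrArg Fin.val ((bet_val hQ hz (d.hom y) b).trans h)
  simp only at h2
  show (bet hQ hz (d.hom y) b).val = b.val
  omega

include hQ in
lemma core_card : Nat.card (Cfsg.pCore 2 K) = 32 := by
  have e : {n : Fin 64 // mQ.testBit n.val = true} ≃ Cfsg.pCore 2 K :=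
    Equiv.ofBijective (fun n => ⟨d.hom ⟨n.1⟩, (hQ _).2 n.2⟩)
      ⟨fun a b h => Subtype.ext (congrArg M64.lab (d.inj (congrArg Subtype.val h))), fun x => by
        obtain ⟨y, hy⟩ := core_le d x.2
        exact ⟨⟨y.lab, (hQ y).1 (hy ▸ x.2)⟩, Subtype.ext hy⟩⟩
  rw [← Nat.card_congr e, Nat.card_eq_fintype_card]
  decide +kernel

/-- A subgroup contained in `T` and the first kernel, and normalising. -/
lemma mem_T_of (hc : centralizer (Cfsg.pCore 2 K : Set K) ≤ Cfsg.pCore 2 K) {k : K}
    (ha : alp hQ hz k = 1) (hb : bet hQ hz k 0 = 0) : k ∈ d.T := by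
  rcases perm3_facts.2.1 _ _ hb (bet_T hQ hz (d.mem_T (M64.of 2))) (bet_two hQ hz) with h | h
  · exact core_le d ((ker_eq hQ hz hc) ▸ ⟨ha, h⟩)
  · have hmem : (d.hom (M64.of 2))⁻¹ * k ∈ Cfsg.pCore 2 K := (ker_eq hQ hz hc) ▸
      ⟨show alp hQ hz _ = 1 by rw [map_mul, map_inv, alp_T hQ hz (d.mem_T _), ha, inv_one, one_mul],
        show bet hQ hz _ = 1 by rw [map_mul, map_inv, h, inv_mul_cancel]⟩
    have := mul_mem (d.mem_T (M64.of 2)) (core_le d hmem)
    rwa [mul_inv_cancel_left] at this

variable (hc : centralizer (Cfsg.pCore 2 K : Set K) ≤ Cfsg.pCore 2 K)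

include hc in
/-- The kernel of the action on the first ruling. -/
lemma kerA : Nat.card (alp hQ hz).ker = 192 ∧ Function.Surjective ((bet hQ hz).comp (alp hQ hz).ker.subtype) := by
  set f := (bet hQ hz).comp (alp hQ hz).ker.subtype with hf
  have hk : f.ker.map (alp hQ hz).ker.subtype = Cfsg.pCore 2 K := by
    rw [← ker_eq hQ hz hc]
    ext x
    simp [hf, MonoidHom.mem_ker, and_comm]
  have hker : Nat.card f.ker = 32 := by
    rw [← card_map_of_injective (alp hQ hz).ker.subtype_injective, hk, core_card hQ]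
  have hcard : Nat.card (alp hQ hz).ker = Nat.card f.range * 32 := by
    rw [f.ker.card_eq_card_quotient_mul_card_subgroup, hker,
      Nat.card_congr (QuotientGroup.quotientKerEquivRange f).toEquiv]
  have hTle : d.T ≤ (alp hQ hz).ker := fun x hx => alp_T hQ hz hx
  have h64 : 64 ∣ Nat.card (alp hQ hz).ker := d.card_T ▸ card_dvd_of_le hTle
  have h6 : Nat.card f.range ∣ 6 := by
    have h := card_subgroup_dvd_card f.range
    rwa [Nat.card_perm, Nat.card_fin] at h
  have hne : Nat.card f.range ≠ 2 := by
    intro h2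
    have hTeq : (alp hQ hz).ker = d.T :=
      (eq_of_le_of_card_ge hTle (by rw [hcard, h2, d.card_T])).symm
    have h2mem : d.hom (M64.of 2) ∈ Cfsg.pCore 2 K := by
      refine Cores.le_pCore (N := (alp hQ hz).ker) ?_ (hTle (d.mem_T _))
      rw [hTeq]; exact d.isPGroup_T
    have h2m := (hQ _).1 h2mem
    rw [inMask_of (by norm_num)] at h2m
    revert h2m; decide +kernel
  have h6' : Nat.card f.range = 6 := by
    rw [hcard] at h64
    have := Nat.le_of_dvd (by norm_num) h6
    have := Nat.card_pos (α := f.range)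
    obtain ⟨c, hc'⟩ := h6
    obtain ⟨c', hc''⟩ := h64
    interval_cases hh : Nat.card f.range <;> omega
  refine ⟨by rw [hcard, h6'], MonoidHom.range_eq_top.1 (eq_top_of_card_eq _ ?_)⟩
  rw [h6', Nat.card_perm, Nat.card_fin]
  rfl

include hc in
lemma exists_bet (b : Fin 3) : ∃ k : K, alp hQ hz k = 1 ∧ bet hQ hz k 0 = b := by
  obtain ⟨k, hk⟩ := (kerA hQ hz hc).2 (Equiv.swap 0 b)
  exact ⟨k, k.2, by
    have : bet hQ hz (k : K) = Equiv.swap 0 b := hk
    rw [this, Equiv.swap_apply_left]⟩

lemma isConj_pt (i b : Fin 3) : IsConj (d.hom (ptM i b)) (d.hom (M64.z * ptM i b)) := by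
  have h := pt_flip
  simp only [List.all_eq_true, List.mem_finRange, forall_const, List.any_eq_true, List.mem_range, beq_iff_eq] at h
  obtain ⟨g, hg, e⟩ := h i b
  refine isConj_iff.2 ⟨d.hom (M64.of g), ?_⟩
  rw [← map_inv, ← map_mul, ← map_mul, hom_eq d, M64.conj_lab, M64.mul_lab, ptM, M64.of_lab_val hg,
    M64.of_lab_val (pt_spec i b).1, M64.z_lab, e]

lemma isConj_move (k : K) (i b : Fin 3) :
    IsConj (d.hom (ptM i b)) (d.hom (ptM (alp hQ hz k i) (bet hQ hz k b))) := by
  have h1 : IsConj (d.hom (ptM i b)) (d.hom (kap d hQ k (ptM i b))) :=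
    isConj_iff.2 ⟨k, (kap_spec hQ k (pt_spec i b).2.1).2.symm⟩
  rcases kap_pt hQ hz k i b with h | h <;> rw [h] at h1
  · exact h1
  · exact h1.trans (isConj_pt _ _).symm

include hc hz hQ in
lemma six_conj (i : Fin 3) {x : M64} (hx : InSix i.val x) : IsConj (d.hom (ptM i 0)) (d.hom x) := by
  have h := six_cover
  simp only [List.all_eq_true, List.mem_finRange, forall_const, List.mem_range, Bool.or_eq_true,
    Bool.not_eq_true', List.any_eq_true, beq_iff_eq, true_and] at h
  have hb : ∃ b, x = ptM i b ∨ x = M64.z * ptM i b := by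
    rcases h i x.lab x.lab.isLt with ((h1 | h1) | h1) | ⟨b, h1⟩
    · exact absurd hx.1 (by rw [inMask, h1]; exact Bool.false_ne_true)
    · exact absurd (M64.ext' (h1.trans M64.one_lab.symm)) hx.2.1
    · exact absurd (M64.ext' (h1.trans M64.z_lab.symm)) hx.2.2
    · refine ⟨b, h1.imp (fun e => M64.ext' ?_) (fun e => M64.ext' ?_)⟩
      · rw [e, ptM, M64.of_lab_val (pt_spec i b).1]
      · rw [M64.mul_lab, M64.z_lab, e, ptM, M64.of_lab_val (pt_spec i b).1]
  obtain ⟨b, hb⟩ := hb
  obtain ⟨k, hka, hkb⟩ := exists_bet hQ hz hc b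
  have h1 := isConj_move hQ hz k i 0
  rw [hka, Perm.one_apply, hkb] at h1
  rcases hb with rfl | rfl
  exacts [h1, h1.trans (isConj_pt i b)]

include hQ hz in
/-- A normalising element of `E` fixes the line inside `E`. -/
lemma bet_of_norm {k : K} (hk : k ∈ normalizer (d.E : Set K)) : bet hQ hz k 0 = 0 := by
  have h : sig hQ hz k 3 = 3 := by
    refine rel_unique hQ (sigFun_spec hQ hz k 3) fun x hx => ?_
    have key : ∀ w : M64, inMask mQ w → (inMask (ln 3) w ↔ d.hom w ∈ d.E) := by
      intro w hw
      have hm := all_lab mask_facts.1 w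
      simp only [Bool.and_eq_true, beq_iff_eq] at hm
      rw [inMask, ← hm.2, d.hom_mem_E]
      simp only [inMask] at hw
      simp [hw]
    rw [key x hx, key _ (kap_spec hQ k hx).1, (kap_spec hQ k hx).2]
    exact mem_normalizer_iff.1 hk (d.hom x)
  have h2 := congrArg Fin.val ((bet_val hQ hz k 0).trans h)
  exact Fin.ext (by simp only at h2; change 3 + _ = 3 at h2; show _ = 0; omega)

include hQ hz hc in
/-- The classification in the extraspecial case. -/
theorem shapeQ : d.ShapeAlt ∨ d.ShapeSp := by
  classical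
  obtain ⟨hA, hB⟩ := kerA hQ hz hc
  have hcard : Nat.card K = Nat.card (alp hQ hz).range * 192 := by
    rw [(alp hQ hz).ker.card_eq_card_quotient_mul_card_subgroup, hA,
      Nat.card_congr (QuotientGroup.quotientKerEquivRange (alp hQ hz)).toEquiv]
  have hodd : ¬ 2 ∣ Nat.card (alp hQ hz).range := by
    intro h2
    haveI : Fact (Nat.Prime 2) := ⟨Nat.prime_two⟩
    refine Sylow.not_dvd_index d.sylow ?_
    have h := d.T.card_mul_index
    rw [d.card_T, hcard] at h
    change 2 ∣ d.T.index
    omega
  have h6 : Nat.card (alp hQ hz).range ∣ 6 := by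
    have h := card_subgroup_dvd_card (alp hQ hz).range
    rwa [Nat.card_perm, Nat.card_fin] at h
  have h13 : Nat.card (alp hQ hz).range = 1 ∨ Nat.card (alp hQ hz).range = 3 := by
    have := Nat.le_of_dvd (by norm_num) h6
    have := Nat.card_pos (α := (alp hQ hz).range)
    interval_cases hh : Nat.card (alp hQ hz).range <;> omega
  rcases h13 with h1 | h3
  · -- the alternating shape
    left
    have hbot : ∀ k, alp hQ hz k = 1 := fun k => mem_bot.1 (eq_bot_of_card_eq _ h1 ▸ ⟨k, rfl⟩)
    have hbk : (bet hQ hz).ker = Cfsg.pCore 2 K := by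
      rw [← ker_eq hQ hz hc, inf_eq_right.2 fun k _ => hbot k]
    have hbs : Function.Surjective (bet hQ hz) := fun p => (hB p).elim fun k hk => ⟨k, hk⟩
    exact
      { card := by rw [hcard, h1]
        pCore_card := core_card hQ
        pCore_mem := hQ
        quot := ⟨(QuotientGroup.quotientMulEquivOfEq hbk.symm).trans
          (QuotientGroup.quotientKerEquivOfSurjective (bet hQ hz) hbs)⟩
        fpf := fun X => by
          haveI : Fact (Nat.Prime 3) := ⟨Nat.prime_three⟩
          refine le_antisymm (fun v hv => ?_) ?_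
          · obtain ⟨hvQ, hvX⟩ := mem_inf.1 hv
            obtain ⟨y, rfl⟩ := core_le d hvQ
            have hyQ : inMask mQ y := (hQ y).1 hvQ
            have h3 : Nat.card (X : Subgroup K) = 3 := by
              rw [X.card_eq_multiplicity, hcard, h1]; norm_num [Nat.factorization_def]
              decide +kernel
            have hne : (X : Subgroup K) ≠ ⊥ := fun h => by rw [h, card_bot] at h3; omega
            obtain ⟨r, hrX, hr1⟩ := (bot_or_exists_ne_one _).resolve_left hne
            have hr3 : r ^ 3 = 1 := by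
              have := pow_card_eq_one' (x := (⟨r, hrX⟩ : (X : Subgroup K)))
              rw [h3] at this
              simpa using congrArg Subtype.val this
            have hord : Odd (orderOf r) :=
              (Odd.of_dvd_nat (by decide : Odd 3) (orderOf_dvd_of_pow_eq_one hr3))
            have hbr : bet hQ hz r ≠ 1 := fun h => hr1 (odd_kernel hQ hz hc hord (hbot r) h)
            have hp3 : bet hQ hz r ^ 3 = 1 := by rw [← map_pow, hr3, map_one]
            have hry : r * d.hom y * r⁻¹ = d.hom y :=
              mul_inv_eq_iff_eq_mul.2 (hvX r hrX)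
            have hky : kap d hQ r y = y := d.inj ((kap_spec hQ r hyQ).2.trans hry)
            have hinv : ∀ i b, cmB y.lab (pt i (bet hQ hz r b)) = cmB y.lab (pt i b) := by
              intro i b
              have hm := (pt_spec i b).2.1
              have e1 := kap_cm hQ r hyQ hm
              rw [hky] at e1
              rcases kap_pt hQ hz r i b with h | h <;> rw [hbot r, Perm.one_apply] at h <;> rw [h] at e1
              · simpa [ptM, M64.of_lab_val (pt_spec _ _).1] using e1
              · rw [show cmB y.lab (pt i b) = cmB y.lab (ptM i b).lab by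
                  rw [ptM, M64.of_lab_val (pt_spec _ _).1], ← e1,
                  show cmB y.lab (pt i (bet hQ hz r b)) = cmB y.lab (ptM i (bet hQ hz r b)).lab by
                  rw [ptM, M64.of_lab_val (pt_spec _ _).1], Bool.eq_iff_iff, M64.cmB_iff, M64.cmB_iff,
                  ← mul_assoc, M64.z_comm, mul_assoc M64.z (ptM i _) y]
                rw [← M64.z_comm y, mul_assoc y M64.z]
                constructor <;> intro e
                · rw [← mul_assoc, M64.z_comm, mul_assoc, e]
                · rw [← mul_assoc, M64.z_comm, mul_assoc] at e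
                  exact mul_left_cancel e
            rw [mem_zpowers_z]
            by_contra hcon
            have hf := fpf_fact
            simp only [List.all_eq_true, Bool.or_eq_true, beq_iff_eq, List.any_eq_true, Bool.not_eq_true',
              beq_eq_false_iff_ne, List.mem_finRange, true_and] at hf
            rcases hf _ (lab_mem y hyQ) with (h | h) | ⟨i, b, h⟩
            · exact hcon (Or.inl (by rw [← map_one d.hom, hom_eq d, h, M64.one_lab]))
            · exact hcon (Or.inr (by rw [Emb.z, hom_eq d, h, M64.z_lab]))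
            · refine h ?_
              rcases perm3_facts.1 _ hp3 hbr b with rfl | rfl | rfl
              · rfl
              · exact hinv i 0
              · rw [hinv i, hinv i]
          · rw [zpowers_le]
            exact ⟨z_mem_core d hz, fun x _ => hz x⟩
        norm_E := le_antisymm (fun k hk => mem_T_of hQ hz hc (hbot k) (bet_of_norm hQ hz hk)) d.T_normalizes
        V_normal := fun i hi k x hx => by
          have hxQ := mV_le ⟨i, hi⟩ hx
          refine ⟨kap d hQ k x, ?_, (kap_spec hQ k hxQ).2.symm⟩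
          rw [mV_eq ⟨i, hi⟩] at hx ⊢
          have h := (sig_spec hQ hz k _ hxQ).1 hx
          rwa [← alp_val hQ hz k ⟨i, hi⟩, hbot k] at h
        six_fused := fun i hi x y hx hy =>
          (six_conj hQ hz hc ⟨i, hi⟩ hx).symm.trans (six_conj hQ hz hc ⟨i, hi⟩ hy) }
  · -- the symplectic shape
    right
    obtain ⟨_, ⟨k₀, rfl⟩, hk₀⟩ := (bot_or_exists_ne_one (alp hQ hz).range).resolve_left
      (fun h => by rw [h, card_bot] at h3; omega)
    have hk3 : alp hQ hz k₀ ^ 3 = 1 := by
      have := pow_card_eq_one' (x := (⟨_, k₀, rfl⟩ : (alp hQ hz).range))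
      rw [h3] at this
      simpa using congrArg Subtype.val this
    have hall : ∀ i, ∃ k : K, alp hQ hz k 0 = i := fun i => by
      rcases perm3_facts.1 _ hk3 hk₀ i with rfl | rfl | rfl
      exacts [⟨1, by rw [map_one, Perm.one_apply]⟩, ⟨k₀, rfl⟩, ⟨k₀ * k₀, by rw [map_mul, Perm.mul_apply]⟩]
    have hto : ∀ i : Fin 3, IsConj (d.hom (ptM 0 0)) (d.hom (ptM i 0)) := by
      intro i
      obtain ⟨k, hk⟩ := hall i
      obtain ⟨l, hla, hlb⟩ := exists_bet hQ hz hc (bet hQ hz k 0)
      have h1 := isConj_move hQ hz (l⁻¹ * k) 0 0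
      rw [map_mul, map_mul, map_inv, map_inv, hla, inv_one, one_mul, Perm.mul_apply, hk, ← hlb,
        ← Perm.mul_apply, inv_mul_cancel, Perm.one_apply] at h1
      exact h1
    exact
      { card := by rw [hcard, h3]
        pCore_card := core_card hQ
        pCore_mem := hQ
        norm_E_card := by
          let N : Subgroup K :=
            { carrier := {k | bet hQ hz k 0 = 0}
              one_mem' := by show bet hQ hz 1 0 = 0; rw [map_one]; rfl
              mul_mem' := fun {a b} ha hb => by
                show bet hQ hz (a * b) 0 = 0; rw [map_mul, Perm.mul_apply, hb, ha]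
              inv_mem' := fun {a} ha => by
                show bet hQ hz a⁻¹ 0 = 0; rw [map_inv]; exact Perm.inv_eq_iff_eq.2 ha.symm }
          have hTN : d.T ≤ N := fun x hx => bet_T hQ hz hx
          have hNn : normalizer (d.E : Set K) = N := by
            refine le_antisymm (fun k hk => bet_of_norm hQ hz hk) fun k hk => ?_
            have hTk : ∀ t ∈ d.T, k * t * k⁻¹ ∈ d.T := by
              intro t ht
              refine mem_T_of hQ hz hc ?_ (N.mul_mem (N.mul_mem hk (hTN ht)) (N.inv_mem hk))
              rw [map_mul, map_mul, alp_T hQ hz ht, map_inv, mul_one, mul_inv_cancel]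
            refine PGroups.SmallExtraspecial.mem_normalizer_of_conj_mem fun x hx => ?_
            rw [← d.unique16 d.isPGroup_T (d.isE16_E.conj k) d.isE16_E
              (by rintro _ ⟨a, ha, rfl⟩; exact hTk a (d.E_le ha)) d.E_le]
            exact ⟨x, hx, rfl⟩
          rw [hNn]
          set f := (alp hQ hz).comp N.subtype with hf
          have hfk : f.ker.map N.subtype = d.T := by
            ext x
            refine ⟨?_, fun hx => ⟨⟨x, hTN hx⟩, alp_T hQ hz hx, rfl⟩⟩
            rintro ⟨w, hw, rfl⟩
            exact mem_T_of hQ hz hc hw w.2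
          have hfr : f.range = (alp hQ hz).range := by
            refine le_antisymm (by rintro _ ⟨w, rfl⟩; exact ⟨w, rfl⟩) ?_
            rintro _ ⟨k, rfl⟩
            obtain ⟨l, hla, hlb⟩ := exists_bet hQ hz hc (bet hQ hz k 0)
            refine ⟨⟨l⁻¹ * k, ?_⟩, ?_⟩
            · show bet hQ hz (l⁻¹ * k) 0 = 0
              rw [map_mul, map_inv, Perm.mul_apply, ← hlb, ← Perm.mul_apply, inv_mul_cancel, Perm.one_apply]
            · show alp hQ hz (l⁻¹ * k) = _
              rw [map_mul, map_inv, hla, inv_one, one_mul]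
          rw [f.ker.card_eq_card_quotient_mul_card_subgroup,
            Nat.card_congr (QuotientGroup.quotientKerEquivRange f).toEquiv, hfr, h3,
            ← card_map_of_injective N.subtype_injective, hfk, d.card_T]
        six_fused := fun i hi j hj x y hx hy =>
          ((six_conj hQ hz hc ⟨i, hi⟩ hx).symm.trans (((hto ⟨i, hi⟩).symm.trans (hto ⟨j, hj⟩)))).trans
            (six_conj hQ hz hc ⟨j, hj⟩ hy) }

end Cfsg.Agent.H87.AltEightLocal
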