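import Cfsg.Agent.H87.AltEightLocal.Reducible
import Cfsg.Agent.H87.AltEightLocal.OverE
import Cfsg.Agent.H87.AltEightLocal.QShape

/-!
The classification of the solvable groups with the model as Sylow 2-subgroup, trivial odd core and central `z`.
-/

set_option autoImplicit false
set_option linter.style.haveILetI false

namespace Cfsg.Agent.H87.AltEightLocal

open Subgroup PGroups.AltEightSylow

/-- The masks containing `E` are `E`, `E` with one further coset, or everything. -/
lemma overE_facts : (overE.all fun m => (List.range 64).all fun x =>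
    (!(Nat.blt x 16) || m.testBit x) &&
      ((m == 0xffff && (!m.testBit x || Nat.blt x 16)) || (m == 0xffffffffffffffff && m.testBit x) ||
        [16, 32, 48].any fun g => m.testBit g && (!m.testBit x || x / 16 == 0 || x / 16 == g / 16))) = true := by
  decide +kernel

lemma small_fact : ((List.range 16).all fun a => mulN (16 + a) (invN 16) < 16 &&
    mulN (32 + a) (invN 32) < 16 && mulN (48 + a) (invN 48) < 16) = true := by
  decide +kernel

theorem local_classification {K : Type*} [Group K] [Finite K] [Group.IsSolvable K] (d : Emb K)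
    (hz : ∀ k : K, k * d.z = d.z * k) (hO : Cfsg.oddCore K = ⊥) : d.Local := by
  have hc := cen_core (K := K) hO
  haveI : ((Cfsg.pCore 2 K).comap d.hom).Normal := Normal.comap inferInstance _
  obtain ⟨m, hm, hmem⟩ := norm_classify (N := (Cfsg.pCore 2 K).comap d.hom) (z_mem_core d hz)
  have hQ : ∀ x : M64, d.hom x ∈ Cfsg.pCore 2 K ↔ inMask m x := hmem
  rcases List.mem_cons.1 hm with rfl | hm
  · rcases shapeQ hQ hz hc with h | h
    exacts [Or.inr (Or.inr (Or.inl h)), Or.inr (Or.inr (Or.inr h))]
  rcases List.mem_append.1 hm with hm | hm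
  swap
  · obtain ⟨⟨m', p, g⟩, ht, rfl⟩ := List.mem_map.1 hm
    exact (red_false d hz hc ht hQ).elim
  have hf := List.all_eq_true.1 overE_facts m hm
  have hE : d.E ≤ Cfsg.pCore 2 K := by
    rintro _ ⟨x, hx, rfl⟩
    have h := all_lab hf x
    simp only [Bool.and_eq_true, Bool.or_eq_true, Bool.not_eq_true', Nat.blt_eq] at h
    refine (hQ x).2 (h.1.resolve_left fun e => ?_)
    rw [show Nat.blt x.lab 16 = true by rw [Nat.blt_eq]; exact M64.mem_subE.1 hx] at e
    exact Bool.noConfusion e
  by_cases h1 : m = 0xffff
  · refine (core_ne_E d inferInstance hz hc (le_antisymm (fun x hx => ?_) hE)).elim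
    obtain ⟨y, rfl⟩ := core_le d hx
    refine d.hom_mem_E.2 ?_
    have key : ((List.range 64).all fun x => !((0xffff : ℕ).testBit x) || Nat.blt x 16) = true := by
      decide +kernel
    have h := all_lab key y
    rw [← h1, Bool.or_eq_true, Bool.not_eq_true', Nat.blt_eq] at h
    refine h.resolve_left fun e => ?_
    have := (hQ y).1 hx
    rw [inMask, e] at this
    exact Bool.noConfusion this
  by_cases h2 : m = 0xffffffffffffffff
  · have hT : d.T ≤ Cfsg.pCore 2 K := by
      rintro _ ⟨x, rfl⟩
      refine (hQ x).2 ?_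
      have key : ((List.range 64).all fun x => (0xffffffffffffffff : ℕ).testBit x) = true := by decide +kernel
      rw [h2]
      exact all_lab key x
    rcases core_top d hz hc (le_antisymm (core_le d) hT) with h | h
    exacts [Or.inl h, Or.inr (Or.inl h)]
  simp only [List.all_eq_true, List.mem_range, Bool.and_eq_true, Bool.or_eq_true, beq_iff_eq, h1, h2,
    List.any_eq_true, Bool.not_eq_true', false_and, false_or] at hf
  obtain ⟨g, hg, hgm, -⟩ := (hf 0 (by norm_num)).2
  have hg64 : g < 64 ∧ 16 ≤ g := by simp at hg; omega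
  refine Or.inl (core_two_cosets d hz hc hE (g := M64.of g) (by rw [M64.of_lab_val hg64.1]; exact hg64.2)
    ((hQ _).2 ((inMask_of hg64.1).2 hgm)) fun x hx => ?_)
  obtain ⟨y, rfl⟩ := core_le d hx
  obtain ⟨g', hg', hg'm, hy⟩ := (hf y.lab y.lab.isLt).2
  have key : ∀ a ∈ [16, 32, 48], ∀ b ∈ [16, 32, 48], m.testBit a = true → m.testBit b = true → a = b := by
    have h3 : (overE.all fun m => m == 0xffffffffffffffff || [16, 32, 48].all fun a => [16, 32, 48].all fun b =>
        !m.testBit a || !m.testBit b || a == b) = true := by decide +kernel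
    simp only [List.all_eq_true, Bool.or_eq_true, beq_iff_eq, Bool.not_eq_true'] at h3
    intro a ha b hb hma hmb
    rcases (((h3 m hm).resolve_left h2) a ha b hb) with (e | e) | e
    · rw [hma] at e; exact Bool.noConfusion e
    · rw [hmb] at e; exact Bool.noConfusion e
    · exact e
  obtain rfl := key g hg g' hg' hgm hg'm
  rcases hy with (h | h) | h
  · exact absurd ((hQ y).1 hx) (by rw [inMask, h]; exact Bool.false_ne_true)
  · exact Or.inl (d.hom_mem_E.2 (by omega))
  · refine Or.inr ?_
    rw [← map_inv, ← map_mul, d.hom_mem_E, M64.mul_lab, M64.inv_lab, M64.of_lab_val hg64.1]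
    have hs := small_fact
    simp only [List.all_eq_true, List.mem_range, Bool.and_eq_true, decide_eq_true_eq] at hs
    have hs' := hs ((y.lab : ℕ) % 16) (Nat.mod_lt _ (by norm_num))
    simp only [List.mem_cons, List.not_mem_nil, or_false] at hg
    rcases hg with rfl | rfl | rfl <;> norm_num at h
    · rw [show (y.lab : ℕ) = 16 + (y.lab : ℕ) % 16 by omega]; exact hs'.1.1
    · rw [show (y.lab : ℕ) = 32 + (y.lab : ℕ) % 16 by omega]; exact hs'.1.2
    · rw [show (y.lab : ℕ) = 48 + (y.lab : ℕ) % 16 by omega]; exact hs'.2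

end Cfsg.Agent.H87.AltEightLocal
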