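import Cfsg.Agent.H87.AltEightLocal.Lattice

/-!
The action of the group on the six elementary subgroups of order 8 of the extraspecial subgroup of order 32.
-/

set_option autoImplicit false
set_option linter.style.haveILetI false
set_option linter.unusedSectionVars false

namespace Cfsg.Agent.H87.AltEightLocal

open Subgroup PGroups.AltEightSylow Equiv

/-- The six elementary subgroups of order 8 of the extraspecial subgroup, in two rulings of three. -/
def lnN : ℕ → ℕ
  | 0 => 0x330033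
  | 1 => 0x842100008421
  | 2 => 0x4821000000004821
  | 3 => 0xcc33
  | 4 => 0x21002100210021
  | _ => 0x4800840000120021

/-- The six masks, indexed by `Fin 6`. -/
def ln (j : Fin 6) : ℕ := lnN j

/-- Generators modulo `z` of the six subgroups. -/
def lgen (j : Fin 6) : ℕ × ℕ :=
  [(1, 16), (10, 32), (11, 48), (1, 10), (16, 32), (17, 42)].getD j (0, 0)

/-- A representative of the meet of two subgroups from different rulings. -/
def pt (i b : Fin 3) : ℕ := [1, 16, 17, 10, 32, 42, 11, 48, 59].getD (3 * i.val + b.val) 0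

lemma pair_line : ((members mQ).all fun a => (members mQ).all fun b =>
    a == 0 || a == 5 || b == 0 || b == 5 || a == b || mulN 5 a == b || !sqB a || !sqB b || !cmB a b ||
      (List.range 6).any fun l =>
        (members mQ).all fun x => (cmB x a && cmB x b) == (lnN l).testBit x) = true := by
  decide +kernel

lemma line_gen : ((List.finRange 6).all fun j => let a := (lgen j).1; let b := (lgen j).2
    Nat.blt a 64 && Nat.blt b 64 && mQ.testBit a && mQ.testBit b && !(a == 0) && !(a == 5) && !(b == 0) &&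
      !(b == 5) && !(a == b) && !(mulN 5 a == b) && sqB a && sqB b && cmB a b &&
      (members mQ).all fun x => (cmB x a && cmB x b) == (ln j).testBit x) = true := by
  decide +kernel

lemma line_meet : ((List.finRange 6).all fun i => (List.finRange 6).all fun j =>
    ((i == j) || (members mQ).all fun x =>
      !((ln i).testBit x && (ln j).testBit x) || x == 0 || x == 5) ==
    (decide (i.val < 3) == decide (j.val < 3))) = true := by
  decide +kernel

lemma line_ne : ((List.finRange 6).all fun i => (List.finRange 6).all fun j =>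
    i == j || (members mQ).any fun x => !((ln i).testBit x == (ln j).testBit x)) = true := by
  decide +kernel

variable {K : Type*} [Group K] [Finite K] (d : Emb K)

/-- The standing hypothesis of this part: the 2-core is the extraspecial subgroup. -/
def CoreQ : Prop := ∀ x : M64, d.hom x ∈ Cfsg.pCore 2 K ↔ inMask mQ x

lemma exists_kap (hQ : CoreQ d) (k : K) (x : M64) :
    ∃ y : M64, inMask mQ x → inMask mQ y ∧ d.hom y = k * d.hom x * k⁻¹ := by
  by_cases hx : inMask mQ x
  · have h : k * d.hom x * k⁻¹ ∈ Cfsg.pCore 2 K := Normal.conj_mem inferInstance _ ((hQ x).2 hx) k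
    obtain ⟨y, hy⟩ := core_le d h
    exact ⟨y, fun _ => ⟨(hQ y).1 (hy ▸ h), hy⟩⟩
  · exact ⟨x, fun h => absurd h hx⟩

/-- Conjugation on the labels of the extraspecial subgroup. -/
noncomputable def kap (hQ : CoreQ d) (k : K) (x : M64) : M64 := (exists_kap d hQ k x).choose

variable {d} (hQ : CoreQ d)

lemma kap_spec (k : K) {x : M64} (hx : inMask mQ x) :
    inMask mQ (kap d hQ k x) ∧ d.hom (kap d hQ k x) = k * d.hom x * k⁻¹ :=
  (exists_kap d hQ k x).choose_spec hx

lemma kap_mul (k l : K) {x : M64} (hx : inMask mQ x) : kap d hQ (k * l) x = kap d hQ k (kap d hQ l x) :=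
  d.inj (by
    rw [(kap_spec hQ _ hx).2, (kap_spec hQ _ (kap_spec hQ _ hx).1).2, (kap_spec hQ _ hx).2]
    group)

lemma kap_one {x : M64} (hx : inMask mQ x) : kap d hQ 1 x = x :=
  d.inj (by rw [(kap_spec hQ _ hx).2]; group)

lemma kap_inj (k : K) {x y : M64} (hx : inMask mQ x) (hy : inMask mQ y) :
    kap d hQ k x = kap d hQ k y ↔ x = y :=
  ⟨fun h => d.inj (PGroups.SmallExtraspecial.conj_inj (g := k)
    (by rw [← (kap_spec hQ k hx).2, ← (kap_spec hQ k hy).2, h])), fun h => by rw [h]⟩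

lemma kap_surj (k : K) {y : M64} (hy : inMask mQ y) : ∃ x, inMask mQ x ∧ kap d hQ k x = y :=
  ⟨kap d hQ k⁻¹ y, (kap_spec hQ _ hy).1, by rw [← kap_mul hQ _ _ hy, mul_inv_cancel, kap_one hQ hy]⟩

lemma kap_cm (k : K) {x y : M64} (hx : inMask mQ x) (hy : inMask mQ y) :
    cmB (kap d hQ k x).lab (kap d hQ k y).lab = cmB x.lab y.lab := by
  rw [Bool.eq_iff_iff, M64.cmB_iff, M64.cmB_iff, ← d.inj.eq_iff, ← d.inj.eq_iff (a := x * y)]
  simp only [map_mul, (kap_spec hQ k hx).2, (kap_spec hQ k hy).2]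
  constructor <;> intro h
  · refine PGroups.SmallExtraspecial.conj_inj (g := k) ?_
    calc k * (d.hom x * d.hom y) * k⁻¹ = k * d.hom x * k⁻¹ * (k * d.hom y * k⁻¹) := by group
      _ = k * (d.hom y * d.hom x) * k⁻¹ := by rw [h]; group
  · calc k * d.hom x * k⁻¹ * (k * d.hom y * k⁻¹) = k * (d.hom x * d.hom y) * k⁻¹ := by group
      _ = k * d.hom y * k⁻¹ * (k * d.hom x * k⁻¹) := by rw [h]; group

variable (hz : ∀ k : K, k * d.z = d.z * k)

include hz in
lemma kap_z (k : K) : inMask mQ M64.z ∧ kap d hQ k M64.z = M64.z := by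
  have h : inMask mQ M64.z := by rw [inMask, M64.z_lab]; decide +kernel
  refine ⟨h, d.inj ?_⟩
  rw [(kap_spec hQ k h).2]
  exact z_central_of d hz k

lemma kap_id (k : K) : inMask mQ (1 : M64) ∧ kap d hQ k 1 = 1 := by
  have h : inMask mQ (1 : M64) := by rw [inMask, M64.one_lab]; decide +kernel
  exact ⟨h, d.inj (by rw [(kap_spec hQ k h).2, map_one]; group)⟩

include hz in
lemma kap_lab_ne (k : K) {x : M64} (hx : inMask mQ x) (h0 : (x.lab : ℕ) ≠ 0) (h5 : (x.lab : ℕ) ≠ 5) :
    ((kap d hQ k x).lab : ℕ) ≠ 0 ∧ ((kap d hQ k x).lab : ℕ) ≠ 5 := by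
  constructor <;> intro h
  · have : kap d hQ k x = kap d hQ k 1 := by rw [(kap_id hQ k).2]; exact M64.ext' (h.trans M64.one_lab.symm)
    exact h0 (by rw [(kap_inj hQ k hx (kap_id hQ k).1).1 this, M64.one_lab])
  · have : kap d hQ k x = kap d hQ k M64.z := by rw [(kap_z hQ hz k).2]; exact M64.ext' (h.trans M64.z_lab.symm)
    exact h5 (by rw [(kap_inj hQ k hx (kap_z hQ hz k).1).1 this, M64.z_lab])

lemma lab_mem (x : M64) (hx : inMask mQ x) : (x.lab : ℕ) ∈ members mQ := by
  simp only [members, List.mem_filter, List.mem_range]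
  exact ⟨x.lab.isLt, hx⟩

/-- The image of a line. -/
def Rel (k : K) (j l : Fin 6) : Prop :=
  ∀ x : M64, inMask mQ x → (inMask (ln j) x ↔ inMask (ln l) (kap d hQ k x))

include hz in
lemma exists_rel (k : K) (j : Fin 6) : ∃ l, Rel hQ k j l := by
  have hg := line_gen
  simp only [List.all_eq_true, List.mem_finRange, forall_const, Bool.and_eq_true, Bool.not_eq_true',
    beq_eq_false_iff_ne, beq_iff_eq, Nat.blt_eq] at hg
  obtain ⟨⟨⟨⟨⟨⟨⟨⟨⟨⟨⟨⟨⟨ha64, hb64⟩, haQ⟩, hbQ⟩, ha0⟩, ha5⟩, hb0⟩, hb5⟩, hab⟩, habz⟩, hsa⟩, hsb⟩, hcab⟩, hline⟩ :=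
    hg j
  set a := M64.of (lgen j).1 with hadef
  set b := M64.of (lgen j).2 with hbdef
  have hal : (a.lab : ℕ) = (lgen j).1 := M64.of_lab_val ha64
  have hbl : (b.lab : ℕ) = (lgen j).2 := M64.of_lab_val hb64
  have haM : inMask mQ a := (inMask_of ha64).2 haQ
  have hbM : inMask mQ b := (inMask_of hb64).2 hbQ
  set a' := kap d hQ k a with ha'
  set b' := kap d hQ k b with hb'
  obtain ⟨ha'0, ha'5⟩ := kap_lab_ne hQ hz k haM (by rwa [hal]) (by rwa [hal])
  obtain ⟨hb'0, hb'5⟩ := kap_lab_ne hQ hz k hbM (by rwa [hbl]) (by rwa [hbl])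
  have hsq : ∀ w : M64, inMask mQ w → sqB w.lab = true → sqB (kap d hQ k w).lab = true := by
    intro w hw hs
    refine M64.sqB_iff.2 (d.inj ?_)
    rw [map_mul, (kap_spec hQ k hw).2, show k * d.hom w * k⁻¹ * (k * d.hom w * k⁻¹) =
      k * (d.hom w * d.hom w) * k⁻¹ by group, ← map_mul, M64.sqB_iff.1 hs, map_one]
    group
  have hne : (a'.lab : ℕ) ≠ b'.lab := fun h => hab (by
    rw [← hal, ← hbl, (kap_inj hQ k haM hbM).1 (M64.ext' h)])
  have hnez : mulN 5 a'.lab ≠ (b'.lab : ℕ) := by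
    intro h
    refine habz ?_
    have hb2 : d.hom b = d.hom (M64.z * a) := by
      refine PGroups.SmallExtraspecial.conj_inj (g := k) ?_
      rw [← (kap_spec hQ k hbM).2, map_mul, show k * (d.hom M64.z * d.hom a) * k⁻¹ =
        k * d.z * k⁻¹ * (k * d.hom a * k⁻¹) by rw [Emb.z]; group, z_central_of d hz, ← (kap_spec hQ k haM).2,
        Emb.z, ← map_mul, hom_eq d, M64.mul_lab, M64.z_lab]
      exact h.symm
    have hb3 := (hom_eq d).1 hb2
    rw [M64.mul_lab, M64.z_lab, hal, hbl] at hb3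
    exact hb3.symm
  have hp := pair_line
  simp only [List.all_eq_true, Bool.or_eq_true, Bool.not_eq_true', List.any_eq_true, beq_iff_eq,
    List.mem_range] at hp
  obtain ⟨l, hl6, hl⟩ : ∃ l < 6, ∀ x ∈ members mQ,
      (cmB x a'.lab && cmB x b'.lab) = (lnN l).testBit x := by
    rcases hp _ (lab_mem a' (kap_spec hQ k haM).1) _ (lab_mem b' (kap_spec hQ k hbM).1) with
      ((((((((h | h) | h) | h) | h) | h) | h) | h) | h) | h
    · exact absurd h ha'0
    · exact absurd h ha'5
    · exact absurd h hb'0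
    · exact absurd h hb'5
    · exact absurd h hne
    · exact absurd h hnez
    · rw [hsq a haM (by rw [hal]; exact hsa)] at h; exact Bool.noConfusion h
    · rw [hsq b hbM (by rw [hbl]; exact hsb)] at h; exact Bool.noConfusion h
    · rw [kap_cm hQ k haM hbM, hal, hbl, hcab] at h; exact Bool.noConfusion h
    · exact h
  refine ⟨⟨l, hl6⟩, fun x hx => ?_⟩
  rw [inMask, inMask, ← hline _ (lab_mem x hx), show ln ⟨l, hl6⟩ = lnN l from rfl,
    ← hl _ (lab_mem _ (kap_spec hQ k hx).1), ha', hb', kap_cm hQ k hx haM, kap_cm hQ k hx hbM, hal, hbl]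

lemma rel_unique {k : K} {j l l' : Fin 6} (h : Rel hQ k j l) (h' : Rel hQ k j l') : l = l' := by
  by_contra hne
  have hc := line_ne
  simp only [List.all_eq_true, List.mem_finRange, forall_const, Bool.or_eq_true, beq_iff_eq,
    List.any_eq_true, Bool.not_eq_true', beq_eq_false_iff_ne] at hc
  obtain ⟨n, hn, hnn⟩ := (hc l l').resolve_left hne
  obtain ⟨hn64, hnQ⟩ := mem_members hn
  obtain ⟨x, hx, hxe⟩ := kap_surj hQ k (y := M64.of n) ((inMask_of hn64).2 hnQ)
  have := (h x hx).symm.trans (h' x hx)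
  rw [hxe, inMask_of hn64, inMask_of hn64, ← Bool.eq_iff_iff] at this
  exact hnn this

/-- The permutation of the six lines, as a function. -/
noncomputable def sigFun (k : K) (j : Fin 6) : Fin 6 := (exists_rel hQ hz k j).choose

lemma sigFun_spec (k : K) (j : Fin 6) : Rel hQ k j (sigFun hQ hz k j) := (exists_rel hQ hz k j).choose_spec

lemma sigFun_mul (k l : K) (j : Fin 6) :
    sigFun hQ hz (k * l) j = sigFun hQ hz k (sigFun hQ hz l j) :=
  rel_unique hQ (sigFun_spec hQ hz (k * l) j) fun x hx => by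
    rw [kap_mul hQ k l hx, sigFun_spec hQ hz l j x hx, sigFun_spec hQ hz k _ _ (kap_spec hQ l hx).1]

lemma sigFun_one (j : Fin 6) : sigFun hQ hz 1 j = j :=
  rel_unique hQ (sigFun_spec hQ hz 1 j) fun x hx => by rw [kap_one hQ hx]

/-- The permutation representation on the six lines. -/
noncomputable def sig : K →* Perm (Fin 6) :=
  MonoidHom.mk' (fun k =>
    { toFun := sigFun hQ hz k
      invFun := sigFun hQ hz k⁻¹
      left_inv := fun j => by rw [← sigFun_mul, inv_mul_cancel, sigFun_one]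
      right_inv := fun j => by rw [← sigFun_mul, mul_inv_cancel, sigFun_one] })
    fun k l => Equiv.ext fun j => sigFun_mul hQ hz k l j

lemma sig_spec (k : K) (j : Fin 6) {x : M64} (hx : inMask mQ x) :
    inMask (ln j) x ↔ inMask (ln (sig hQ hz k j)) (kap d hQ k x) := sigFun_spec hQ hz k j x hx

lemma sig_ruling (k : K) (i j : Fin 6) :
    ((sig hQ hz k i).val < 3 ↔ (sig hQ hz k j).val < 3) ↔ (i.val < 3 ↔ j.val < 3) := by
  have hm := line_meet
  simp only [List.all_eq_true, List.mem_finRange, forall_const, beq_iff_eq] at hm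
  have key : ∀ i j : Fin 6, (i.val < 3 ↔ j.val < 3) ↔ i = j ∨ ∀ x : M64, inMask mQ x →
      inMask (ln i) x → inMask (ln j) x → x = 1 ∨ x = M64.z := by
    intro i j
    have h := (hm i j).symm
    rw [Bool.eq_iff_iff] at h
    simp only [beq_iff_eq, decide_eq_decide, Bool.or_eq_true, List.all_eq_true, Bool.not_eq_true',
      Bool.and_eq_false_iff] at h
    rw [h]
    refine or_congr Iff.rfl ⟨fun h2 x hx hi hj => ?_, fun h2 n hn => ?_⟩
    · rcases h2 _ (lab_mem x hx) with ((h3 | h3) | h3) | h3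
      · rw [inMask, h3] at hi; exact Bool.noConfusion hi
      · rw [inMask, h3] at hj; exact Bool.noConfusion hj
      · exact Or.inl (M64.ext' (h3.trans M64.one_lab.symm))
      · exact Or.inr (M64.ext' (h3.trans M64.z_lab.symm))
    · obtain ⟨hn64, hnQ⟩ := mem_members hn
      by_contra hcon
      simp only [not_or, Bool.not_eq_false] at hcon
      rcases h2 _ ((inMask_of hn64).2 hnQ) ((inMask_of hn64).2 hcon.1.1.1) ((inMask_of hn64).2 hcon.1.1.2) with
        h3 | h3
      · exact hcon.1.2 (by rw [← M64.of_lab_val hn64, h3, M64.one_lab])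
      · exact hcon.2 (by rw [← M64.of_lab_val hn64, h3, M64.z_lab])
  rw [key, key, (sig hQ hz k).injective.eq_iff]
  refine or_congr Iff.rfl ⟨fun h x hx hi hj => ?_, fun h y hy hi hj => ?_⟩
  · have hk := h _ (kap_spec hQ k hx).1 ((sig_spec hQ hz k i hx).1 hi) ((sig_spec hQ hz k j hx).1 hj)
    rcases hk with hk | hk
    · exact Or.inl ((kap_inj hQ k hx (kap_id hQ k).1).1 (hk.trans (kap_id hQ k).2.symm))
    · exact Or.inr ((kap_inj hQ k hx (kap_z hQ hz k).1).1 (hk.trans (kap_z hQ hz k).2.symm))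
  · obtain ⟨x, hx, rfl⟩ := kap_surj hQ k hy
    rcases h x hx ((sig_spec hQ hz k i hx).2 hi) ((sig_spec hQ hz k j hx).2 hj) with rfl | rfl
    · exact Or.inl (kap_id hQ k).2
    · exact Or.inr (kap_z hQ hz k).2

lemma T_lines : ((List.range 64).all fun g => (List.finRange 4).all fun j : Fin 4 =>
    (members mQ).all fun x =>
      (ln ⟨j.val, j.isLt.trans (by norm_num)⟩).testBit x ==
        (ln ⟨j.val, j.isLt.trans (by norm_num)⟩).testBit (conjN g x)) = true := by
  decide +kernel

/-- The Sylow subgroup fixes the first ruling and the subgroup inside `E`. -/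
lemma sig_T (g : M64) {j : Fin 6} (hj : j.val < 4) : sig hQ hz (d.hom g) j = j := by
  refine rel_unique hQ (sigFun_spec hQ hz (d.hom g) j) fun x hx => ?_
  have e : kap d hQ (d.hom g) x = g * x * g⁻¹ := d.inj (by
    rw [(kap_spec hQ _ hx).2, map_mul, map_mul, map_inv])
  rw [e, inMask, inMask, M64.conj_lab]
  have h := T_lines
  simp only [List.all_eq_true, List.mem_range, List.mem_finRange, forall_const, beq_iff_eq] at h
  have h2 := h g.lab g.lab.isLt ⟨j, hj⟩ x.lab (lab_mem x hx)
  simp only [Fin.eta] at h2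
  rw [h2]

/-- No element exchanges the rulings. -/
theorem sig_block (k : K) (j : Fin 6) : (sig hQ hz k j).val < 3 ↔ j.val < 3 := by
  classical
  let H : Subgroup K :=
    { carrier := {k | ∀ j : Fin 6, (sig hQ hz k j).val < 3 ↔ j.val < 3}
      one_mem' := fun j => by rw [map_one]; rfl
      mul_mem' := fun {a b} ha hb j => by rw [map_mul]; exact (ha _).trans (hb j)
      inv_mem' := fun {a} ha j => by
        have := ha (sig hQ hz a⁻¹ j)
        rw [← Perm.mul_apply, ← map_mul, mul_inv_cancel, map_one] at this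
        exact this.symm }
  suffices H = ⊤ from (this ▸ mem_top k : k ∈ H) j
  have hT : d.T ≤ H := by
    rintro _ ⟨g, rfl⟩ j
    have h := sig_ruling hQ hz (d.hom g) j 0
    rw [sig_T hQ hz g (j := 0) (by decide)] at h
    simpa using h
  have hidx : H.index ≤ 2 := by
    let f : K ⧸ H → Bool := fun c => decide ((sig hQ hz c.out⁻¹ 0).val < 3)
    refine (Nat.card_le_card_of_injective f fun c₁ c₂ h => ?_).trans_eq (by simp)
    rw [← c₁.out_eq', ← c₂.out_eq', QuotientGroup.eq]
    intro j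
    have h1 := sig_ruling hQ hz (c₁.out⁻¹ * c₂.out) (sig hQ hz c₂.out⁻¹ 0) j
    rw [← Perm.mul_apply, ← map_mul, mul_inv_cancel_right] at h1
    simp only [f, decide_eq_decide] at h
    tauto
  haveI : Fact (Nat.Prime 2) := ⟨Nat.prime_two⟩
  have hodd : ¬ 2 ∣ H.index := fun h =>
    Sylow.not_dvd_index d.sylow (h.trans (Subgroup.index_dvd_of_le hT))
  refine Subgroup.index_eq_one.1 ?_
  have hne : H.index ≠ 0 := Subgroup.index_ne_zero_of_finite
  omega

/-- The action on the first ruling. -/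
noncomputable def alp : K →* Perm (Fin 3) :=
  MonoidHom.mk' (fun k =>
    { toFun := fun i => ⟨sig hQ hz k ⟨i, i.isLt.trans (by norm_num)⟩, (sig_block hQ hz k _).2 i.isLt⟩
      invFun := fun i => ⟨sig hQ hz k⁻¹ ⟨i, i.isLt.trans (by norm_num)⟩, (sig_block hQ hz _ _).2 i.isLt⟩
      left_inv := fun i => Fin.ext (by simp only [Fin.eta, ← Perm.mul_apply, ← map_mul]; simp)
      right_inv := fun i => Fin.ext (by simp only [Fin.eta, ← Perm.mul_apply, ← map_mul]; simp) })
    fun k l => Equiv.ext fun i => Fin.ext (by simp [map_mul])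

/-- The action on the second ruling. -/
noncomputable def bet : K →* Perm (Fin 3) :=
  MonoidHom.mk' (fun k =>
    { toFun := fun i => ⟨(sig hQ hz k ⟨3 + i.val, by omega⟩).val - 3, by
        have := (sig hQ hz k ⟨3 + i.val, by omega⟩).isLt; omega⟩
      invFun := fun i => ⟨(sig hQ hz k⁻¹ ⟨3 + i.val, by omega⟩).val - 3, by
        have := (sig hQ hz k⁻¹ ⟨3 + i.val, by omega⟩).isLt; omega⟩
      left_inv := fun i => Fin.ext (by
        have h := (sig_block hQ hz k ⟨3 + i.val, by omega⟩).not.2 (by simp)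
        have e : (⟨3 + ((sig hQ hz k ⟨3 + i.val, by omega⟩).val - 3), by omega⟩ : Fin 6) =
            sig hQ hz k ⟨3 + i.val, by omega⟩ := Fin.ext (by simp only; omega)
        simp only [e, ← Perm.mul_apply, ← map_mul]
        simp)
      right_inv := fun i => Fin.ext (by
        have h := (sig_block hQ hz k⁻¹ ⟨3 + i.val, by omega⟩).not.2 (by simp)
        have e : (⟨3 + ((sig hQ hz k⁻¹ ⟨3 + i.val, by omega⟩).val - 3), by omega⟩ : Fin 6) =
            sig hQ hz k⁻¹ ⟨3 + i.val, by omega⟩ := Fin.ext (by simp only; omega)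
        simp only [e, ← Perm.mul_apply, ← map_mul]
        simp) })
    fun k l => Equiv.ext fun i => Fin.ext (by
      have h := (sig_block hQ hz l ⟨3 + i.val, by omega⟩).not.2 (by simp)
      have e : (⟨3 + ((sig hQ hz l ⟨3 + i.val, by omega⟩).val - 3), by omega⟩ : Fin 6) =
          sig hQ hz l ⟨3 + i.val, by omega⟩ := Fin.ext (by simp only; omega)
      simp [map_mul, e])

lemma alp_val (k : K) (i : Fin 3) :
    (⟨(alp hQ hz k i).val, (alp hQ hz k i).isLt.trans (by norm_num)⟩ : Fin 6) =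
      sig hQ hz k ⟨i, i.isLt.trans (by norm_num)⟩ := rfl

lemma bet_val (k : K) (i : Fin 3) :
    (⟨3 + (bet hQ hz k i).val, by omega⟩ : Fin 6) = sig hQ hz k ⟨3 + i.val, by omega⟩ := by
  have h := (sig_block hQ hz k ⟨3 + i.val, by omega⟩).not.2 (by simp)
  refine Fin.ext ?_
  show 3 + ((sig hQ hz k ⟨3 + i.val, _⟩).val - 3) = _
  omega

lemma meet_pt : ((List.finRange 3).all fun i => (List.finRange 3).all fun b =>
    Nat.blt (pt i b) 64 && mQ.testBit (pt i b) && sqB (pt i b) &&
    (ln ⟨i.val, i.isLt.trans (by norm_num)⟩).testBit (pt i b) &&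
    (ln ⟨3 + b.val, Nat.add_lt_add_left b.isLt 3⟩).testBit (pt i b) &&
    !(pt i b == 0) && !(pt i b == 5) &&
    (members mQ).all fun x => !((ln ⟨i.val, i.isLt.trans (by norm_num)⟩).testBit x &&
      (ln ⟨3 + b.val, Nat.add_lt_add_left b.isLt 3⟩).testBit x) ||
      x == 0 || x == 5 || x == pt i b || x == mulN 5 (pt i b)) = true := by
  decide +kernel

/-- The element representing a meet. -/
noncomputable def ptM (i b : Fin 3) : M64 := M64.of (pt i b)

lemma pt_spec (i b : Fin 3) : pt i b < 64 ∧ inMask mQ (ptM i b) ∧ ptM i b * ptM i b = 1 := by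
  have h := meet_pt
  simp only [List.all_eq_true, List.mem_finRange, forall_const, Bool.and_eq_true, Nat.blt_eq] at h
  exact ⟨(h i b).1.1.1.1.1.1.1, (inMask_of (h i b).1.1.1.1.1.1.1).2 (h i b).1.1.1.1.1.1.2,
    M64.sqB_iff.1 (by rw [ptM, M64.of_lab_val (h i b).1.1.1.1.1.1.1]; exact (h i b).1.1.1.1.1.2)⟩

/-- Conjugation moves meets to meets. -/
theorem kap_pt (k : K) (i b : Fin 3) :
    kap d hQ k (ptM i b) = ptM (alp hQ hz k i) (bet hQ hz k b) ∨
      kap d hQ k (ptM i b) = M64.z * ptM (alp hQ hz k i) (bet hQ hz k b) := by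
  have h := meet_pt
  simp only [List.all_eq_true, List.mem_finRange, forall_const, Bool.and_eq_true, Nat.blt_eq,
    Bool.not_eq_true', beq_eq_false_iff_ne] at h
  obtain ⟨hn, hxQ, -⟩ := pt_spec i b
  have h1 := (sig_spec hQ hz k ⟨i.val, i.isLt.trans (by norm_num)⟩ hxQ).1 ((inMask_of hn).2 (h i b).1.1.1.1.2)
  have h2 := (sig_spec hQ hz k ⟨3 + b.val, by omega⟩ hxQ).1 ((inMask_of hn).2 (h i b).1.1.1.2)
  rw [← alp_val hQ hz] at h1
  rw [← bet_val hQ hz] at h2
  obtain ⟨hn0, hn5⟩ := kap_lab_ne hQ hz k hxQ (by rw [ptM, M64.of_lab_val hn]; exact (h i b).1.1.2)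
    (by rw [ptM, M64.of_lab_val hn]; exact (h i b).1.2)
  have h3 := (h (alp hQ hz k i) (bet hQ hz k b)).2 _ (lab_mem _ (kap_spec hQ k hxQ).1)
  simp only [Bool.or_eq_true, Bool.not_eq_true', Bool.and_eq_false_iff, beq_iff_eq] at h3
  rcases h3 with ((((h3 | h3) | h3) | h3) | h3) | h3
  · rw [inMask, h3] at h1; exact Bool.noConfusion h1
  · rw [inMask, h3] at h2; exact Bool.noConfusion h2
  · exact absurd h3 hn0
  · exact absurd h3 hn5
  · exact Or.inl (M64.ext' (by rw [h3, ptM, M64.of_lab_val (pt_spec _ _).1]))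
  · refine Or.inr (M64.ext' ?_)
    rw [M64.mul_lab, M64.z_lab, h3, ptM, M64.of_lab_val (pt_spec _ _).1]

end Cfsg.Agent.H87.AltEightLocal
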