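import Cfsg.Agent.H87.AltEightLocal.Lattice

/-!
A normal subgroup with a listed stabilising element outside it is not the 2-core.
-/

set_option autoImplicit false
set_option linter.style.haveILetI false
set_option linter.unusedSectionVars false

namespace Cfsg.Agent.H87.AltEightLocal

open Subgroup PGroups.AltEightSylow

/-- A word for `0`, `z` or a square of a member. -/
def sqList (m : ℕ) : List ℕ := 0 :: 5 :: (members m).map fun x => mulN x x

/-- The conditions on the data of a reducible normal subgroup. -/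
def redOK (t : ℕ × ℕ × ℕ) : Bool :=
  let m := t.1; let p := t.2.1; let g := t.2.2
  Nat.blt g 64 && !m.testBit g &&
  ((members m).all fun x => p.testBit (mulN x x) && p.testBit (comN g x)) &&
  ((members p).all fun w => (sqList m).any fun a => (sqList m).any fun b => mulN a b == w) &&
  ((members p).all fun w => m.testBit w && mulN w w == 0 && p.testBit (invN w) &&
    (comN g w == 0 || comN g w == 5) && (members p).all fun v => p.testBit (mulN w v)) &&
  p.testBit 0 && p.testBit 5

lemma redData_ok : redData.all redOK = true := by decide +kernel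

lemma redOK_spec {m p g : ℕ} (h : (m, p, g) ∈ redData) :
    g < 64 ∧ m.testBit g = false ∧
      (∀ x ∈ members m, p.testBit (mulN x x) = true ∧ p.testBit (comN g x) = true) ∧
      (∀ w ∈ members p, ∃ a ∈ sqList m, ∃ b ∈ sqList m, mulN a b = w) ∧
      (∀ w ∈ members p, m.testBit w = true ∧ mulN w w = 0 ∧ p.testBit (invN w) = true ∧
        (comN g w = 0 ∨ comN g w = 5) ∧ ∀ v ∈ members p, p.testBit (mulN w v) = true) ∧
      p.testBit 0 = true ∧ p.testBit 5 = true := by
  have h1 := List.all_eq_true.1 redData_ok _ h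
  simp only [redOK, Bool.and_eq_true, Bool.or_eq_true, Bool.not_eq_true', Nat.blt_eq, beq_iff_eq, List.all_eq_true,
    List.any_eq_true] at h1
  obtain ⟨⟨⟨⟨⟨⟨a, b⟩, c⟩, d⟩, e⟩, f⟩, g⟩ := h1
  exact ⟨a, b, c, d, fun w hw => ⟨(e w hw).1.1.1.1, (e w hw).1.1.1.2, (e w hw).1.1.2, (e w hw).1.2, (e w hw).2⟩, f, g⟩

lemma lab_mem_members {m : ℕ} {x : M64} (h : inMask m x) : (x.lab : ℕ) ∈ members m := by
  simp only [members, List.mem_filter, List.mem_range]
  exact ⟨x.lab.isLt, h⟩

/-- The subgroup of a mask closed under multiplication and inversion. -/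
def maskSub (p : ℕ) (h0 : p.testBit 0 = true)
    (hm : ∀ w ∈ members p, ∀ v ∈ members p, p.testBit (mulN w v) = true)
    (hi : ∀ w ∈ members p, p.testBit (invN w) = true) : Subgroup M64 where
  carrier := {x | inMask p x}
  one_mem' := by show p.testBit ((1 : M64).lab : ℕ) = true; rw [M64.one_lab]; exact h0
  mul_mem' := by
    intro x y hx hy
    show p.testBit ((x * y).lab : ℕ) = true
    rw [M64.mul_lab]; exact hm _ (lab_mem_members hx) _ (lab_mem_members hy)
  inv_mem' := by
    intro x hx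
    show p.testBit ((x⁻¹).lab : ℕ) = true
    rw [M64.inv_lab]; exact hi _ (lab_mem_members hx)

variable {K : Type*} [Group K] [Finite K] (d : Emb K)

/-- A listed reducible subgroup is not the 2-core. -/
theorem red_false (hz : ∀ k : K, k * d.z = d.z * k)
    (hc : centralizer (Cfsg.pCore 2 K : Set K) ≤ Cfsg.pCore 2 K) {m p g : ℕ} (ht : (m, p, g) ∈ redData)
    (hQ : ∀ x : M64, d.hom x ∈ Cfsg.pCore 2 K ↔ inMask m x) : False := by
  obtain ⟨hg, hgm, hsq, hgen, hpp, h0, h5⟩ := redOK_spec ht
  set S := maskSub p h0 (fun w hw v hv => (hpp w hw).2.2.2.2 v hv) (fun w hw => (hpp w hw).2.2.1) with hS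
  set PS := S.map d.hom with hPS
  haveI hQn : (Cfsg.pCore 2 K).Normal := inferInstance
  haveI hZn := zpowers_z_normal d hz
  have hin : ∀ {n : ℕ}, n < 64 → p.testBit n = true → d.hom (M64.of n) ∈ PS :=
    fun hn h => ⟨_, (inMask_of hn).2 h, rfl⟩
  have hword : ∀ a ∈ sqList m, a < 64 ∧ ∀ k : K, k * d.hom (M64.of a) * k⁻¹ ∈ PS := by
    intro a ha
    simp only [sqList, List.mem_cons, List.mem_map] at ha
    rcases ha with rfl | rfl | ⟨x, hx, rfl⟩
    · refine ⟨by norm_num, fun k => ?_⟩
      rw [show d.hom (M64.of 0) = 1 from map_one d.hom, mul_one, mul_inv_cancel]; exact one_mem _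
    · refine ⟨by norm_num, fun k => ?_⟩
      show k * d.z * k⁻¹ ∈ PS
      rw [z_central_of d hz]; exact hin (by norm_num) h5
    · obtain ⟨hx64, hxm⟩ := mem_members hx
      have hl : ((M64.of x * M64.of x).lab : ℕ) = mulN x x := by rw [M64.mul_lab, M64.of_lab_val hx64]
      refine ⟨hl ▸ (M64.of x * M64.of x).lab.isLt, fun k => ?_⟩
      have hmem : k * d.hom (M64.of x) * k⁻¹ ∈ Cfsg.pCore 2 K :=
        hQn.conj_mem _ ((hQ _).2 ((inMask_of hx64).2 hxm)) k
      obtain ⟨y, hy⟩ := core_le d hmem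
      rw [← hom_of_lab d _ hl, map_mul, show k * (d.hom (M64.of x) * d.hom (M64.of x)) * k⁻¹ =
        k * d.hom (M64.of x) * k⁻¹ * (k * d.hom (M64.of x) * k⁻¹) by group, ← hy, ← map_mul]
      refine ⟨_, ?_, rfl⟩
      show p.testBit ((y * y).lab : ℕ) = true
      rw [M64.mul_lab]
      exact (hsq _ (lab_mem_members ((hQ y).1 (hy ▸ hmem)))).1
  haveI hPn : PS.Normal := by
    refine ⟨?_⟩
    rintro _ ⟨w, hw, rfl⟩ k
    obtain ⟨a, ha, b, hb, e⟩ := hgen _ (lab_mem_members hw)
    obtain ⟨ha64, ha'⟩ := hword a ha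
    obtain ⟨hb64, hb'⟩ := hword b hb
    have hw' : w = M64.of a * M64.of b :=
      M64.ext' (by rw [M64.mul_lab, M64.of_lab_val ha64, M64.of_lab_val hb64, e])
    rw [hw', map_mul, show k * (d.hom (M64.of a) * d.hom (M64.of b)) * k⁻¹ =
      k * d.hom (M64.of a) * k⁻¹ * (k * d.hom (M64.of b) * k⁻¹) by group]
    exact mul_mem (ha' k) (hb' k)
  set J := stab (Cfsg.pCore 2 K) PS ⊓ stab PS (zpowers d.z) with hJ
  have hJ2 : IsPGroup 2 J := by
    refine isPGroup_of_odd fun r hr ho => odd_fix_core hc ho fun x hx => ?_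
    have hPfix : ∀ w ∈ PS, r * w * r⁻¹ = w := by
      intro w hw
      refine fix_step (s := r * w * r⁻¹ * w⁻¹) ho ?_ ?_ (by group)
      · rcases (mem_zpowers_z d).1 (hr.2 w hw) with h | h <;> rw [h]
        exacts [mul_one 1, z_sq d]
      · rcases (mem_zpowers_z d).1 (hr.2 w hw) with h | h <;> rw [h]
        · rw [mul_one, mul_inv_cancel]
        · exact z_central_of d hz r
    refine fix_step (s := r * x * r⁻¹ * x⁻¹) ho ?_ (hPfix _ (hr.1 x hx)) (by group)
    obtain ⟨w, hw, e⟩ := hr.1 x hx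
    rw [← e, ← map_mul, ← map_one d.hom, hom_eq d, M64.mul_lab, M64.one_lab]
    exact (hpp _ (lab_mem_members hw)).2.1
  have hgJ : d.hom (M64.of g) ∈ J := by
    constructor
    · intro x hx
      obtain ⟨y, rfl⟩ := core_le d hx
      rw [hom_com]
      refine ⟨_, ?_, rfl⟩
      show p.testBit ((_ : M64).lab : ℕ) = true
      rw [com_lab, M64.of_lab_val hg]
      exact (hsq _ (lab_mem_members ((hQ y).1 hx))).2
    · rintro _ ⟨y, hy, rfl⟩
      rw [hom_com, mem_zpowers_z]
      rcases (hpp _ (lab_mem_members hy)).2.2.2.1 with h | h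
      · exact Or.inl (by rw [← map_one d.hom, hom_eq d, com_lab, M64.of_lab_val hg, h, M64.one_lab])
      · exact Or.inr (by rw [Emb.z, hom_eq d, com_lab, M64.of_lab_val hg, h, M64.z_lab])
  have := (hQ _).1 (Cores.le_pCore hJ2 hgJ)
  rw [inMask_of hg, hgm] at this
  exact Bool.noConfusion this

end Cfsg.Agent.H87.AltEightLocal
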